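import Cfsg.Agent.PGroups.Basic

/-!
Actions in which the nontrivial `p`-elements fix at most `c` points: a set of `c` points fixed by such an element
is a full fixed point set, and either all conjugates of a central element fix its set pointwise or two commuting
elements have different sets.
-/

set_option autoImplicit false
set_option linter.unusedSectionVars false
set_option linter.style.haveILetI false

namespace Cfsg.Lib.FixityFour

open MulAction
open scoped Pointwise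

variable {G Ω : Type*} [Group G] [MulAction G Ω]

theorem fixed_conj (g u : G) : fixedBy Ω (g * u * g⁻¹) = g • fixedBy Ω u := by
  ext x
  rw [Set.mem_smul_set_iff_inv_smul_mem, mem_fixedBy, mem_fixedBy, mul_smul, mul_smul]
  exact ⟨fun h => eq_inv_smul_iff.2 h, fun h => by rw [h, smul_inv_smul]⟩

theorem smul_fixed_of_commute {g u : G} (h : Commute g u) : g • fixedBy Ω u = fixedBy Ω u := by
  rw [← fixed_conj, h.eq, mul_inv_cancel_right]

theorem ncard_smul (g : G) (W : Set Ω) : (g • W).ncard = W.ncard :=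
  Set.ncard_image_of_injective _ (MulAction.injective g)

theorem pointwise_of_fixed {u : G} {W : Set Ω} (h : fixedBy Ω u = W) : ∀ x ∈ W, u • x = x := fun x hx => by
  rw [← h] at hx
  exact hx

/-- A subgroup preserving a set acts on it. -/
noncomputable def permOn (Q : Subgroup G) (W : Set Ω) (hQ : ∀ g ∈ Q, g • W = W) : Q →* Equiv.Perm W where
  toFun g :=
    { toFun := fun x => ⟨(g : G) • (x : Ω), by
        have h := Set.smul_mem_smul_set (a := (g : G)) x.2
        rwa [hQ _ g.2] at h⟩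
      invFun := fun x => ⟨((g : G))⁻¹ • (x : Ω), by
        have h := Set.smul_mem_smul_set (a := (g : G)⁻¹) x.2
        rwa [hQ _ (inv_mem g.2)] at h⟩
      left_inv := fun x => Subtype.ext (inv_smul_smul _ _)
      right_inv := fun x => Subtype.ext (smul_inv_smul _ _) }
  map_one' := Equiv.ext fun x => Subtype.ext (one_smul G _)
  map_mul' a b := Equiv.ext fun x => Subtype.ext (mul_smul (a : G) (b : G) _)

theorem permOn_apply {Q : Subgroup G} {W : Set Ω} {hQ : ∀ g ∈ Q, g • W = W} (g : Q) (x : W) :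
    ((permOn Q W hQ g x : W) : Ω) = (g : G) • (x : Ω) := rfl

theorem permOn_eq_one {Q : Subgroup G} {W : Set Ω} {hQ : ∀ g ∈ Q, g • W = W} {g : Q} :
    permOn Q W hQ g = 1 ↔ ∀ x ∈ W, (g : G) • x = x := by
  constructor
  · exact fun h x hx => congrArg Subtype.val (Equiv.congr_fun h ⟨x, hx⟩)
  · exact fun h => Equiv.ext fun x => Subtype.ext (h x x.2)

theorem ker_permOn (Q : Subgroup G) (W : Set Ω) (hQ : ∀ g ∈ Q, g • W = W) :
    (permOn Q W hQ).ker = (Q ⊓ fixingSubgroup G W).subgroupOf Q := by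
  ext g
  rw [MonoidHom.mem_ker, permOn_eq_one, Subgroup.mem_subgroupOf, Subgroup.mem_inf, mem_fixingSubgroup_iff]
  exact ⟨fun h => ⟨g.2, h⟩, fun h => h.2⟩

/-- The order is the kernel times the image. -/
theorem card_eq_kernel_mul (Q : Subgroup G) (W : Set Ω) (hQ : ∀ g ∈ Q, g • W = W) :
    Nat.card Q = Nat.card ↥(Q ⊓ fixingSubgroup G W) * Nat.card (permOn Q W hQ).range := by
  rw [← Subgroup.index_ker, ker_permOn, ← Subgroup.card_mul_index ((Q ⊓ fixingSubgroup G W).subgroupOf Q),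
    Nat.card_congr (Subgroup.subgroupOfEquivOfLe (inf_le_left (a := Q) (b := fixingSubgroup G W))).toEquiv]

section

variable [Finite G] [Finite Ω] {p : ℕ} [Fact p.Prime]

/-- A nontrivial normal subgroup of a `p`-group meets the centre in an element of order `p`. -/
theorem exists_central {Q K : Subgroup G} (hQ : IsPGroup p Q) (hKQ : K ≤ Q)
    (hn : ∀ g ∈ Q, ∀ k ∈ K, g * k * g⁻¹ ∈ K) (hK : K ≠ ⊥) :
    ∃ u ∈ K, orderOf u = p ∧ ∀ g ∈ Q, Commute g u := by
  haveI := hQ.isNilpotent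
  have hN : (K.subgroupOf Q).Normal := ⟨fun k hk g => by
    rw [Subgroup.mem_subgroupOf] at hk ⊢
    exact hn g g.2 k hk⟩
  have hne : K.subgroupOf Q ≠ ⊥ := fun e => hK (by rwa [Subgroup.subgroupOf_eq_bot, disjoint_comm,
    disjoint_iff, inf_eq_right.2 hKQ] at e)
  haveI := hN
  obtain ⟨x, hx, hxc, hxo⟩ := Cfsg.Lib.PGroups.exists_mem_center_of_normal_ne_bot hQ hne
  exact ⟨(x : G), Subgroup.mem_subgroupOf.1 hx, by rw [Subgroup.orderOf_coe, hxo],
    fun g hg => congrArg Subtype.val (Subgroup.mem_center_iff.1 hxc ⟨g, hg⟩)⟩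

/-- The nontrivial `p`-elements fix at most `c` points. -/
def FixLE (G Ω : Type*) [Group G] [MulAction G Ω] (p c : ℕ) : Prop :=
  ∀ g : G, g ≠ 1 → (∃ k, orderOf g = p ^ k) → (fixedBy Ω g).ncard ≤ c

theorem fixLE_of_prime {c : ℕ} (h : ∀ g : G, orderOf g = p → (fixedBy Ω g).ncard ≤ c) : FixLE G Ω p c := by
  rintro g hg ⟨k, hk⟩
  rcases k with _ | k
  · exact absurd (orderOf_eq_one_iff.1 (by rw [hk, pow_zero])) hg
  · refine le_trans (Set.ncard_le_ncard (fun x hx => ?_) (Set.toFinite _)) (h (g ^ p ^ k) ?_)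
    · exact (pow_mem (show g ∈ stabilizer G x from hx) (p ^ k) : _)
    · rw [orderOf_pow_of_dvd (pow_ne_zero _ (Fact.out : p.Prime).ne_zero) (hk ▸ pow_dvd_pow p k.le_succ), hk,
        pow_succ, Nat.mul_div_cancel_left _ (pow_pos (Fact.out : p.Prime).pos k)]

variable {c : ℕ}

theorem FixLE.fixed_eq (h : FixLE G Ω p c) {S : Subgroup G} (hS : IsPGroup p S) {k : G} (hk : k ∈ S) (hk1 : k ≠ 1)
    {W : Set Ω} (hW : W.ncard = c) (hfix : ∀ x ∈ W, k • x = x) : fixedBy Ω k = W := by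
  obtain ⟨j, hj⟩ := IsPGroup.iff_orderOf.1 hS ⟨k, hk⟩
  rw [Subgroup.orderOf_mk] at hj
  exact (Set.eq_of_subset_of_ncard_le (fun x hx => hfix x hx) (by rw [hW]; exact h k hk1 ⟨j, hj⟩)
    (Set.toFinite _)).symm

/-- The kernel of a full set is semiregular off it. -/
theorem FixLE.card_le_of_invariant (h : FixLE G Ω p c) {S U : Subgroup G} (hS : IsPGroup p S) (hU : U ≤ S)
    {W D : Set Ω} (hW : W.ncard = c) (hfix : ∀ k ∈ U, ∀ x ∈ W, k • x = x) (hD : ∀ k ∈ U, ∀ x ∈ D, k • x ∈ D)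
    {d : Ω} (hd : d ∈ D) (hdW : d ∉ W) : Nat.card U ≤ D.ncard := by
  rw [← Nat.card_coe_set_eq]
  refine Nat.card_le_card_of_injective (fun k => (⟨(k : G) • d, hD k k.2 d hd⟩ : D)) fun a b hab => ?_
  have e : ((b : G)⁻¹ * a) • d = d := by
    rw [mul_smul, show (a : G) • d = (b : G) • d from congrArg Subtype.val hab, inv_smul_smul]
  by_contra hne
  refine hdW ?_
  rw [← h.fixed_eq hS (hU (mul_mem (inv_mem b.2) a.2))
    (fun h1 => hne (Subtype.ext (inv_mul_eq_one.1 h1).symm)) hW (hfix _ (mul_mem (inv_mem b.2) a.2))]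
  exact e

/-- Commuting elements `z`, `u` with different fixed point sets of size `c`. -/
structure Config (Ω : Type*) [MulAction G Ω] (p c : ℕ) (S : Subgroup G) (z u : G) : Prop where
  zp : orderOf z = p
  up : orderOf u = p
  cz : (fixedBy Ω z).ncard = c
  cu : (fixedBy Ω u).ncard = c
  ne : fixedBy Ω z ≠ fixedBy Ω u
  zS : z ∈ S
  uS : u ∈ S
  comm : Commute z u
  central : ∀ g ∈ S, Commute g u → Commute g z
  stab : ∀ g ∈ S, g • fixedBy Ω u = fixedBy Ω u → Commute g u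

/-- The centralizer of `u` in `S`. -/
abbrev cent (S : Subgroup G) (u : G) : Subgroup G := S ⊓ Subgroup.centralizer ({u} : Set G)

theorem mem_cent {S : Subgroup G} {u g : G} : g ∈ cent S u ↔ g ∈ S ∧ Commute g u := by
  rw [Subgroup.mem_inf, Subgroup.mem_centralizer_singleton_iff]
  exact Iff.rfl

/-- An element in the centre of the stabilizer of a full set, fixing it pointwise. -/
theorem exists_kernel_element (h : FixLE G Ω p c) {S : Subgroup G} (hS : IsPGroup p S) {W : Set Ω}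
    (hW : W.ncard = c) {x : G} (hx : x ∈ S) (hx1 : x ≠ 1) (hxW : ∀ a ∈ W, x • a = a) :
    ∃ u ∈ S, orderOf u = p ∧ fixedBy Ω u = W ∧ ∀ g ∈ S, g • W = W → Commute g u := by
  set Q := S ⊓ stabilizer G W with hQ
  set K := S ⊓ fixingSubgroup G W with hK
  have hKQ : K ≤ Q := fun k hk => ⟨hk.1, by
    show k • W = W
    refine Set.eq_of_subset_of_ncard_le ?_ (by rw [ncard_smul]) (Set.toFinite _)
    rintro _ ⟨a, ha, rfl⟩
    show k • a ∈ W
    rw [show k • a = a from (mem_fixingSubgroup_iff G).1 hk.2 a ha]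
    exact ha⟩
  obtain ⟨u, hu, hup, hc⟩ := exists_central (p := p) (hS.to_le (inf_le_left : Q ≤ S)) hKQ (fun g hg k hk =>
    ⟨S.mul_mem (S.mul_mem hg.1 hk.1) (S.inv_mem hg.1), (mem_fixingSubgroup_iff G).2 fun a ha => by
      have ha' : g⁻¹ • a ∈ W := by
        rw [← Set.mem_smul_set_iff_inv_smul_mem, show g • W = W from hg.2]
        exact ha
      rw [mul_smul, mul_smul, show k • g⁻¹ • a = g⁻¹ • a from (mem_fixingSubgroup_iff G).1 hk.2 _ ha', smul_inv_smul]⟩)
    (fun e => hx1 (Subgroup.mem_bot.1 (e ▸ (⟨hx, (mem_fixingSubgroup_iff G).2 hxW⟩ : x ∈ K))))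
  refine ⟨u, hu.1, hup, h.fixed_eq hS hu.1 (fun e => ?_) hW ((mem_fixingSubgroup_iff G).1 hu.2),
    fun g hg hgW => hc g ⟨hg, hgW⟩⟩
  rw [e, orderOf_one] at hup
  exact (Fact.out : p.Prime).one_lt.ne hup

/-- Either all conjugates of a central element fix its set pointwise, or there is a configuration. -/
theorem central_or_config (h : FixLE G Ω p c) (S : Sylow p G) {u₀ : G} (hu₀ : orderOf u₀ = p)
    (hc₀ : (fixedBy Ω u₀).ncard = c) :
    (∃ z ∈ (S : Subgroup G), orderOf z = p ∧ (fixedBy Ω z).ncard = c ∧ (∀ s ∈ (S : Subgroup G), Commute s z) ∧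
      ∀ g : G, g * z * g⁻¹ ∈ (S : Subgroup G) → ∀ a ∈ fixedBy Ω z, (g * z * g⁻¹) • a = a) ∨
    ∃ z u : G, Config Ω p c (S : Subgroup G) z u := by
  have hS := S.isPGroup'
  have hp1 : p ≠ 1 := (Fact.out : p.Prime).ne_one
  by_cases hz : ∃ z ∈ (S : Subgroup G), orderOf z = p ∧ (fixedBy Ω z).ncard = c ∧ ∀ s ∈ (S : Subgroup G), Commute s z
  · obtain ⟨z, hzS, hzp, hzc, hzs⟩ := hz
    by_cases hall : ∀ g : G, g * z * g⁻¹ ∈ (S : Subgroup G) → ∀ a ∈ fixedBy Ω z, (g * z * g⁻¹) • a = a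
    · exact Or.inl ⟨z, hzS, hzp, hzc, hzs, hall⟩
    push Not at hall
    obtain ⟨g, hg, a, ha, hga⟩ := hall
    obtain ⟨u, huS, hup, huW, huC⟩ := exists_kernel_element h hS
      (W := fixedBy Ω (g * z * g⁻¹)) (by rw [fixed_conj, ncard_smul, hzc]) hg
      (fun e => by rw [conj_eq_one_iff] at e; rw [e, orderOf_one] at hzp; exact hp1 hzp.symm) (fun x hx => hx)
    refine Or.inr ⟨z, u, hzp, hup, hzc, by rw [huW, fixed_conj, ncard_smul, hzc], fun e => hga ?_, hzS, huS,
      (hzs u huS).symm, fun x hx _ => hzs x hx, fun x hx hxW => huC x hx (by rw [← huW]; exact hxW)⟩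
    rw [e, huW] at ha
    exact ha
  · obtain ⟨T, hT⟩ := (IsPGroup.of_card (G := Subgroup.zpowers u₀) (n := 1)
      (by rw [Nat.card_zpowers, hu₀, pow_one])).exists_le_sylow
    obtain ⟨g₀, hg₀⟩ := MulAction.exists_smul_eq G T S
    have hvS : g₀ * u₀ * g₀⁻¹ ∈ (S : Subgroup G) := hg₀ ▸ ⟨u₀, hT (Subgroup.mem_zpowers u₀), rfl⟩
    obtain ⟨u, huS, hup, huW, huC⟩ := exists_kernel_element h hS
      (W := fixedBy Ω (g₀ * u₀ * g₀⁻¹)) (by rw [fixed_conj, ncard_smul, hc₀]) hvS
      (fun e => by rw [conj_eq_one_iff] at e; rw [e, orderOf_one] at hu₀; exact hp1 hu₀.symm) (fun x hx => hx)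
    have huc : (fixedBy Ω u).ncard = c := by rw [huW, fixed_conj, ncard_smul, hc₀]
    set W := fixedBy Ω u with hW
    set Q := (S : Subgroup G) ⊓ Subgroup.centralizer ({u} : Set G) with hQ
    have hstab : ∀ x ∈ (S : Subgroup G), x • W = W → Commute x u := fun x hx hxW => huC x hx (by rw [← huW]; exact hxW)
    have hlt : Q.subgroupOf (S : Subgroup G) < ⊤ := lt_top_iff_ne_top.2 fun e => hz ⟨u, huS, hup, huc, fun s hs =>
      Subgroup.mem_centralizer_singleton_iff.1 (Subgroup.subgroupOf_eq_top.1 e hs).2⟩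
    haveI := hS.isNilpotent
    obtain ⟨x, hx, hxQ⟩ := SetLike.exists_of_lt (Group.normalizerCondition_of_isNilpotent _ hlt)
    have hnQ : ∀ y ∈ Q, (x : G) * y * (x : G)⁻¹ ∈ Q := fun y hy => by
      simpa [Subgroup.mem_subgroupOf] using
        (Subgroup.mem_normalizer_iff.1 hx ⟨y, hy.1⟩).1 (Subgroup.mem_subgroupOf.2 hy)
    have hnQ' : ∀ y ∈ Q, (x : G)⁻¹ * y * (x : G) ∈ Q := fun y hy => by
      simpa [Subgroup.mem_subgroupOf] using
        (Subgroup.mem_normalizer_iff.1 (inv_mem hx) ⟨y, hy.1⟩).1 (Subgroup.mem_subgroupOf.2 hy)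
    have huQ : u ∈ Q := ⟨huS, Subgroup.mem_centralizer_singleton_iff.2 rfl⟩
    have hzQ := hnQ u huQ
    refine Or.inr ⟨(x : G) * u * (x : G)⁻¹, u, by rw [← MulAut.conj_apply, MulEquiv.orderOf_eq, hup], hup,
      by rw [fixed_conj, ncard_smul, huc], huc, fun e => hxQ ?_, hzQ.1, huS,
      Subgroup.mem_centralizer_singleton_iff.1 hzQ.2, fun y hy hyu => ?_, hstab⟩
    · rw [fixed_conj] at e
      exact Subgroup.mem_subgroupOf.2 ⟨x.2, Subgroup.mem_centralizer_singleton_iff.2 (hstab _ x.2 e)⟩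
    · have h1 := Subgroup.mem_centralizer_singleton_iff.1 (hnQ' y ⟨hy, Subgroup.mem_centralizer_singleton_iff.2 hyu⟩).2
      show y * ((x : G) * u * (x : G)⁻¹) = (x : G) * u * (x : G)⁻¹ * y
      calc y * ((x : G) * u * (x : G)⁻¹) = (x : G) * ((x : G)⁻¹ * y * (x : G) * u) * (x : G)⁻¹ := by group
        _ = (x : G) * (u * ((x : G)⁻¹ * y * (x : G))) * (x : G)⁻¹ := by rw [h1]
        _ = (x : G) * u * (x : G)⁻¹ * y := by group

end

end Cfsg.Lib.FixityFour
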