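import Cfsg.Agent.TwoFusion.DihedralByFour
import Cfsg.Agent.S0501
import Cfsg.Agent.S1232

/-!
Bounds on the sectional rank of a 2-group from the centralizer of an involution, and from four-subgroups of an
elementary abelian group of order 16 with that group as centralizer.
-/

set_option autoImplicit false
set_option linter.unusedSectionVars false
set_option linter.style.haveILetI false

namespace Cfsg.Lib.FixityFour

open Subgroup
open Cfsg.Lib.DihedralByFour (SquareBound comm_mem_of_squares le_or_le sectional_of_squareBound)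

variable {G : Type*} [Group G] [Finite G]

/-- The bound on the sections gives the bound on the squares. -/
theorem squareBound_of_sectional {S : Subgroup G} (h : Cfsg.SectionalPRankLE 2 4 S) : SquareBound S := by
  intro K M hK hM hsq
  set H := K.subgroupOf S
  set N := (M.subgroupOf S).subgroupOf H
  have hmem : ∀ x : H, x ∈ N ↔ ((x : S) : G) ∈ M := fun x => by simp [N, mem_subgroupOf]
  have hxK : ∀ x : H, ((x : S) : G) ∈ K := fun x => mem_subgroupOf.1 x.2
  haveI hN : N.Normal := ⟨fun n hn g => by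
    rw [hmem] at hn ⊢
    have h1 := comm_mem_of_squares hsq (hxK g) (hxK n)
    have h2 := mul_mem h1 hn
    simpa [mul_assoc] using h2⟩
  have hc : IsMulCommutative (⊤ : Subgroup (H ⧸ N)) := ⟨⟨fun a b => Subtype.ext (by
    obtain ⟨x, hx⟩ := QuotientGroup.mk'_surjective N (a : H ⧸ N)
    obtain ⟨y, hy⟩ := QuotientGroup.mk'_surjective N (b : H ⧸ N)
    show (a : H ⧸ N) * b = b * a
    rw [← hx, ← hy, ← map_mul, ← map_mul, QuotientGroup.mk'_eq_mk']
    refine ⟨(x * y)⁻¹ * (y * x), ?_, mul_inv_cancel_left _ _⟩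
    rw [hmem]
    have h1 := comm_mem_of_squares hsq (inv_mem (hxK y)) (inv_mem (hxK x))
    simpa [mul_assoc] using h1)⟩⟩
  have hq := h H N ⊤ hc (fun a _ => by
    obtain ⟨x, rfl⟩ := QuotientGroup.mk'_surjective N a
    rw [← map_pow, QuotientGroup.mk'_apply, QuotientGroup.eq_one_iff, hmem, pow_two]
    exact hsq _ (hxK x))
  rw [card_top, ← index_eq_card] at hq
  have e1 := card_mul_index N
  rw [Nat.card_congr (subgroupOfEquivOfLe (show K ≤ S from hK)).toEquiv] at e1
  have e2 : Nat.card N = Nat.card M := by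
    rw [Nat.card_congr (subgroupOfEquivOfLe (fun x hx => mem_subgroupOf.2 (hM (mem_subgroupOf.1 hx)))).toEquiv,
      Nat.card_congr (subgroupOfEquivOfLe (hM.trans hK)).toEquiv]
  rw [← e1, e2, mul_comm]
  exact Nat.mul_le_mul_right _ hq

/-- From the sections of a Sylow 2-subgroup to those of the group. -/
theorem sectional_of_sylow (S : Sylow 2 G) (h : Cfsg.SectionalPRankLE 2 4 (S : Subgroup G)) :
    Cfsg.SectionalPRankLE 2 4 G :=
  sectional_of_squareBound S (squareBound_of_sectional h)

variable {P : Type*} [Group P] [Finite P] (hP : IsPGroup 2 P)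
include hP

theorem sectional_of_small (h32 : Nat.card P ≤ 32) (hne : Nat.card P = 32 → ∃ x : P, x * x ≠ 1) :
    Cfsg.SectionalPRankLE 2 4 P := by
  haveI : Fact (Nat.Prime 2) := ⟨Nat.prime_two⟩
  obtain ⟨S⟩ : Nonempty (Sylow 2 P) := inferInstance
  refine sectional_of_squareBound S fun K M _ hMK hsq => ?_
  have hK := K.card_le_card_group
  have hM : 1 ≤ Nat.card M := Nat.card_pos
  by_contra hc
  push Not at hc
  obtain ⟨k, hk⟩ := (hP.to_subgroup K).exists_card_eq
  obtain ⟨m, hm⟩ := (hP.to_subgroup M).exists_card_eq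
  have hk4 : k ≤ 5 := (Nat.pow_le_pow_iff_right (by norm_num)).1 (by omega : 2 ^ k ≤ 2 ^ 5)
  rw [hk, hm, show (16 : ℕ) = 2 ^ 4 by norm_num, ← pow_add] at hc
  have h4 := (Nat.pow_lt_pow_iff_right (by norm_num : 1 < 2)).1 hc
  obtain ⟨x, hx⟩ := hne (le_antisymm h32 (by
    rw [show (32 : ℕ) = 2 ^ 5 by norm_num, show (5 : ℕ) = k by omega, ← hk]; exact hK))
  have hKtop : K = ⊤ := K.eq_top_of_le_card (by rw [hk, show k = 5 by omega]; simpa using h32)
  have hMbot : M = ⊥ := card_eq_one.1 (by rw [hm, show m = 0 by omega, pow_zero])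
  exact hx (mem_bot.1 (hMbot ▸ hsq x (hKtop ▸ mem_top x)))

/-- A normal elementary abelian group is at most the square of the fixed group of an involution. -/
theorem card_le_fixed_sq (A : Subgroup P) [A.Normal] (hA : IsMulCommutative A) (hA2 : ∀ a ∈ A, a * a = 1) {u : P}
    (hu : u * u = 1) :
    Nat.card A ≤ Nat.card ↥(A ⊓ centralizer ({u} : Set P)) * Nat.card ↥(A ⊓ centralizer ({u} : Set P)) := by
  have hcm : ∀ a b : P, a ∈ A → b ∈ A → a * b = b * a := fun a b ha hb =>
    congrArg Subtype.val (mul_comm' (⟨a, ha⟩ : A) ⟨b, hb⟩)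
  have hui : u⁻¹ = u := inv_eq_of_mul_eq_one_right hu
  have hconj : ∀ a ∈ A, u * a * u ∈ A := fun a ha => by
    have := ‹A.Normal›.conj_mem a ha u
    rwa [hui] at this
  refine Cfsg.Lib.DihedralByFour.card_subgroup_le (G := P)
    (fun a : A => (⟨(a : P) * (u * a * u), mul_mem a.2 (hconj a a.2), mem_centralizer_singleton_iff.2 ?_⟩ :
      ↥(A ⊓ centralizer ({u} : Set P)))) (A ⊓ centralizer ({u} : Set P) : Subgroup P) fun a b hab => ?_
  · rw [hcm a _ a.2 (hconj a a.2)]
    nth_rw 1 [show u * (a : P) * u * a * u = u * (a * (u * a * u)) by group]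
    rw [hcm a _ a.2 (hconj a a.2)]
  · have e : (a : P) * (u * a * u) = b * (u * b * u) := congrArg Subtype.val hab
    refine ⟨A.mul_mem (A.inv_mem a.2) b.2, mem_centralizer_singleton_iff.2 ?_⟩
    have ha : (a : P)⁻¹ = a := inv_eq_of_mul_eq_one_right (hA2 a a.2)
    rw [ha]
    have e2 : u * (a : P) * u * (u * b * u) = a * b := by
      calc u * (a : P) * u * (u * b * u) = (a * a) * (u * a * u) * (u * b * u) := by rw [hA2 a a.2, one_mul]
        _ = a * (a * (u * a * u)) * (u * b * u) := by group
        _ = a * (b * (u * b * u)) * (u * b * u) := by rw [e]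
        _ = a * b * ((u * b * u) * (u * b * u)) := by group
        _ = a * b := by rw [hA2 _ (hconj b b.2), mul_one]
    calc (a : P) * b * u = u * a * u * (u * b * u) * u := by rw [e2]
      _ = u * a * (u * u) * b * (u * u) := by group
      _ = u * (a * b) := by rw [hu]; group

/-- An elementary abelian subgroup of order 8 and a given element in a larger one. -/
theorem exists_eight {B : Subgroup P} (h8 : 8 ≤ Nat.card B) (hBc : IsMulCommutative B) (hB2 : ∀ b ∈ B, b * b = 1)
    {u : P} (hu : u ∈ B) : ∃ E : Subgroup P, E ≤ B ∧ IsElementaryAbelian 2 E ∧ Nat.card E = 8 ∧ u ∈ E := by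
  haveI : Fact (Nat.Prime 2) := ⟨Nat.prime_two⟩
  obtain ⟨k, hk⟩ := (hP.to_subgroup B).exists_card_eq
  have h3 : 3 ≤ k := (Nat.pow_le_pow_iff_right (by norm_num : 1 < 2)).1 (by omega : 2 ^ 3 ≤ 2 ^ k)
  have hu1 : orderOf (⟨u, hu⟩ : B) ∣ 2 := orderOf_dvd_of_pow_eq_one (Subtype.ext (by simpa [pow_two] using hB2 u hu))
  obtain ⟨j, hj, hje⟩ := (Nat.dvd_prime_pow Nat.prime_two).1 (show orderOf (⟨u, hu⟩ : B) ∣ 2 ^ 1 by simpa using hu1)
  obtain ⟨E', hE', hle⟩ := Sylow.exists_subgroup_card_pow_prime_le (G := B) 2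
    ((pow_dvd_pow 2 h3).trans hk.symm.dvd) (zpowers (⟨u, hu⟩ : B)) (n := j) (by rw [Nat.card_zpowers, hje]) (by omega)
  refine ⟨E'.map B.subtype, map_subtype_le E', ⟨⟨⟨fun a b => Subtype.ext ?_⟩⟩, fun a ha => ?_⟩, ?_, ?_⟩
  · show (a : P) * b = b * a
    exact congrArg Subtype.val (mul_comm' (⟨(a : P), map_subtype_le E' a.2⟩ : B) ⟨b, map_subtype_le E' b.2⟩)
  · rw [pow_two]; exact hB2 a (map_subtype_le E' ha)
  · rw [← Nat.card_congr (equivMapOfInjective E' _ B.subtype_injective).toEquiv, hE']; norm_num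
  · exact ⟨⟨u, hu⟩, hle (mem_zpowers _), rfl⟩

/-- Elementary abelian groups of order 8 at `u` that are self-centralizing in the centralizer of `u`. -/
theorem sectional_of_selfCentralizing {u : P} (hu : u * u = 1)
    (hE : ∀ E : Subgroup P, IsElementaryAbelian 2 E → Nat.card E = 8 → u ∈ E → ∀ r : P, Commute r u →
      (∀ e ∈ E, Commute r e) → r ∈ E) : Cfsg.SectionalPRankLE 2 4 P := by
  by_cases h : ∀ A : Subgroup P, A.Normal → IsMulCommutative A → (∀ a ∈ A, a ^ 2 = 1) → Nat.card A ≤ 4
  · exact Cfsg.Agent.S0501.result hP h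
  push Not at h
  obtain ⟨A, hn, hc, hA2, hA4⟩ := h
  have hA2' : ∀ a ∈ A, a * a = 1 := fun a ha => by rw [← pow_two]; exact hA2 a ha
  obtain ⟨k, hk⟩ := (hP.to_subgroup A).exists_card_eq
  have h3 : 3 ≤ k := (Nat.pow_lt_pow_iff_right (by norm_num : 1 < 2)).1 (by omega : 2 ^ 2 < 2 ^ k)
  have h8 : 8 ≤ Nat.card A := hk ▸ (Nat.pow_le_pow_right (by norm_num) h3 : 2 ^ 3 ≤ 2 ^ k)
  haveI := hn
  have hcm : ∀ a b : P, a ∈ A → b ∈ A → a * b = b * a := fun a b ha hb =>
    congrArg Subtype.val (mul_comm' (⟨a, ha⟩ : A) ⟨b, hb⟩)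
  obtain ⟨B, hB8, hBc, hB2, huB⟩ : ∃ B : Subgroup P, 8 ≤ Nat.card B ∧ IsMulCommutative B ∧
      (∀ b ∈ B, b * b = 1) ∧ u ∈ B := by
    by_cases huA : u ∈ A
    · exact ⟨A, h8, hc, hA2', huA⟩
    set C := A ⊓ centralizer ({u} : Set P)
    have hCu : ∀ c ∈ C, c * u = u * c := fun c hc' => mem_centralizer_singleton_iff.1 hc'.2
    obtain ⟨j, hj⟩ := (hP.to_subgroup C).exists_card_eq
    have hsq := card_le_fixed_sq hP A hc hA2' hu
    have hC4 : 2 ^ 2 ≤ Nat.card C := by
      rw [hj] at hsq ⊢
      refine Nat.pow_le_pow_right (by norm_num) ?_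
      by_contra hlt
      have : (2 : ℕ) ^ j ≤ 2 := le_of_le_of_eq (Nat.pow_le_pow_right (by norm_num) (show j ≤ 1 by omega)) (pow_one 2)
      nlinarith
    let B : Subgroup P :=
      { carrier := {x | x ∈ C ∨ x * u ∈ C}
        one_mem' := Or.inl C.one_mem
        mul_mem' := by
          rintro x y (hx | hx) (hy | hy)
          · exact Or.inl (C.mul_mem hx hy)
          · exact Or.inr (by rw [mul_assoc]; exact C.mul_mem hx hy)
          · exact Or.inr (by rw [mul_assoc, hCu y hy, ← mul_assoc]; exact C.mul_mem hx hy)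
          · refine Or.inl ?_
            rw [show x * y = (x * u) * (y * u) by
              calc x * y = x * ((y * u) * u) := by rw [mul_assoc y u u, hu, mul_one]
                _ = x * (u * (y * u)) := by rw [hCu _ hy]
                _ = (x * u) * (y * u) := (mul_assoc _ _ _).symm]
            exact C.mul_mem hx hy
        inv_mem' := by
          rintro x (hx | hx)
          · exact Or.inl (C.inv_mem hx)
          · refine Or.inr ?_
            have h1 := C.inv_mem hx
            rw [mul_inv_rev, inv_eq_of_mul_eq_one_right hu] at h1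
            rw [show x⁻¹ * u = u * x⁻¹ by
              have h2 := hCu _ h1
              calc x⁻¹ * u = (u * u) * x⁻¹ * u := by rw [hu, one_mul]
                _ = u * ((u * x⁻¹) * u) := by group
                _ = u * (u * (u * x⁻¹)) := by rw [h2]
                _ = u * x⁻¹ := by rw [← mul_assoc, hu, one_mul]]
            exact h1 }
    have hBu : ∀ x ∈ B, Commute x u := by
      rintro x (hx | hx)
      · exact hCu x hx
      · have h2 := hCu _ hx
        exact mul_right_cancel (b := u) (h2.trans (mul_assoc u x u).symm)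
    refine ⟨B, ?_, ⟨⟨fun a b => Subtype.ext ?_⟩⟩, fun x hx => ?_, Or.inr (by rw [hu]; exact C.one_mem)⟩
    · refine le_trans (by omega : 8 ≤ 2 * Nat.card C) ?_
      rw [show 2 * Nat.card C = Nat.card (C ⊕ C) by rw [Nat.card_sum]; ring]
      refine Nat.card_le_card_of_injective (Sum.elim (fun c => (⟨c, Or.inl c.2⟩ : B))
        fun c => ⟨(c : P) * u, Or.inr (by rw [mul_assoc, hu, mul_one]; exact c.2)⟩) ?_
      rintro (a | a) (b | b) hab <;> have e := congrArg Subtype.val hab
      · exact congrArg Sum.inl (Subtype.ext e)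
      · exact absurd (by rw [show u = (b : P)⁻¹ * a by rw [show (a : P) = b * u from e]; group]
                         exact A.mul_mem (A.inv_mem b.2.1) a.2.1) huA
      · exact absurd (by rw [show u = (a : P)⁻¹ * b by rw [show (b : P) = a * u from e.symm]; group]
                         exact A.mul_mem (A.inv_mem a.2.1) b.2.1) huA
      · exact congrArg Sum.inr (Subtype.ext (mul_right_cancel e))
    · show (a : P) * b = b * a
      have key : ∀ x ∈ B, ∀ y ∈ C, x * y = y * x := by
        rintro x (hx | hx) y hy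
        · exact hcm x y hx.1 hy.1
        · calc x * y = (x * u) * (u * y) := by rw [← mul_assoc, mul_assoc x u u, hu, mul_one]
            _ = (x * u) * y * u := by rw [← hCu y hy, ← mul_assoc]
            _ = y * (x * u) * u := by rw [hcm _ y hx.1 hy.1]
            _ = y * x := by rw [mul_assoc, mul_assoc x u u, hu, mul_one]
      rcases b.2 with hb | hb
      · exact key a a.2 b hb
      · have h1 := key a a.2 _ hb
        have h2 := hBu a a.2
        calc (a : P) * b = a * (b * u) * u := by rw [mul_assoc, mul_assoc, hu, mul_one]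
          _ = b * u * (a * u) := by rw [h1]; group
          _ = b * u * (u * a) := by rw [h2.eq]
          _ = b * a := by rw [← mul_assoc, mul_assoc (b : P) u u, hu, mul_one]
    · rcases hx with hx' | hx'
      · exact hA2' x hx'.1
      · calc x * x = (x * u) * (x * u) := by
              rw [show (x * u) * (x * u) = x * (u * x) * u by group,
                ← (hBu x (Or.inr hx')).eq, ← mul_assoc, mul_assoc (x * x) u u, hu, mul_one]
          _ = 1 := hA2' _ hx'.1
  obtain ⟨E, -, hEel, hE8, huE⟩ := exists_eight hP hB8 hBc hB2 huB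
  refine Cfsg.Agent.S1232.result hP E hEel hE8 (le_antisymm (fun r hr => ?_) ?_)
  · exact hE E hEel hE8 huE r ((mem_centralizer_iff.1 hr u huE).symm) fun e he => (mem_centralizer_iff.1 hr e he).symm
  · haveI := hEel.1
    exact le_centralizer E

end Cfsg.Lib.FixityFour
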