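import Cfsg.Agent.FixityFour.TwoConfig
import Cfsg.Agent.S1175

/-!
The case that some involution fixes a point: a strongly embedded subgroup, or a small Sylow 2-subgroup.
-/

set_option autoImplicit false
set_option linter.unusedSectionVars false
set_option linter.style.haveILetI false

namespace Cfsg.Lib.FixityFour

open MulAction Subgroup
open scoped Pointwise

variable {G Ω : Type*} [Group G] [Finite G] [MulAction G Ω] [Finite Ω]

/-- All conjugates of a central involution in the Sylow subgroup fixing its set pointwise give a strongly embedded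
subgroup. -/
theorem two_central [IsSimpleGroup G] [FaithfulSMul G Ω] [IsPretransitive G Ω] {c : ℕ} (hc1 : 1 ≤ c)
    (h : FixLE G Ω 2 c) (S : Sylow 2 G) {z : G} (hzS : z ∈ (S : Subgroup G)) (hz : orderOf z = 2)
    (hzc : (fixedBy Ω z).ncard = c) (hzs : ∀ s ∈ (S : Subgroup G), Commute s z)
    (hall : ∀ g : G, g * z * g⁻¹ ∈ (S : Subgroup G) → ∀ a ∈ fixedBy Ω z, (g * z * g⁻¹) • a = a) :
    ∃ H : Subgroup G, Cfsg.IsStronglyEmbedded H := by
  haveI : Fact (Nat.Prime 2) := ⟨Nat.prime_two⟩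
  set W := fixedBy Ω z
  set M := stabilizer G W with hM
  have hz1 : z ≠ 1 := fun e => by rw [e, orderOf_one] at hz; omega
  obtain ⟨w, hw⟩ : W.Nonempty := Set.nonempty_of_ncard_ne_zero (by omega)
  have hMtop : M ≠ ⊤ := fun htop => hz1 (FaithfulSMul.eq_of_smul_eq_smul (α := Ω) fun x => by
    obtain ⟨g, rfl⟩ := exists_smul_eq G w x
    rw [one_smul]
    have hg : g • W = W := (htop ▸ mem_top g : g ∈ M)
    have := Set.smul_mem_smul_set (a := g) hw
    rw [hg] at this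
    exact this)
  have hSM : (S : Subgroup G) ≤ M := fun s hs => smul_fixed_of_commute (hzs s hs)
  have hzM : z ∈ M := hSM hzS
  have h2 : ∀ g : G, g * z * g⁻¹ ∈ M → g ∈ M := by
    intro g hg
    obtain ⟨T, hT⟩ := (IsPGroup.of_card (G := zpowers (⟨g * z * g⁻¹, hg⟩ : M)) (n := 1)
      (by rw [Nat.card_zpowers, Subgroup.orderOf_mk, ← MulAut.conj_apply, MulEquiv.orderOf_eq, hz, pow_one])).exists_le_sylow
    obtain ⟨m, hm⟩ := MulAction.exists_smul_eq M T (S.subtype hSM)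
    have hmem : ((m : G) * g) * z * ((m : G) * g)⁻¹ ∈ (S : Subgroup G) := by
      have h1 : m * ⟨g * z * g⁻¹, hg⟩ * m⁻¹ ∈ (S.subtype hSM : Subgroup M) :=
        hm ▸ ⟨_, hT (mem_zpowers _), rfl⟩
      have h1' : (m : G) * (g * z * g⁻¹) * (m : G)⁻¹ ∈ (S : Subgroup G) := h1
      rwa [show (m : G) * g * z * ((m : G) * g)⁻¹ = m * (g * z * g⁻¹) * (m : G)⁻¹ by group]
    have hfix := h.fixed_eq S.isPGroup' hmem (fun e => hz1 (conj_eq_one_iff.1 e)) hzc (hall _ hmem)
    rw [fixed_conj] at hfix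
    have hmg : (m : G) * g ∈ M := hfix
    simpa using mul_mem (inv_mem m.2) hmg
  refine Cfsg.Agent.S1175.result M hMtop z hz hzM ⟨S, hzS, hzs⟩ h2 fun g hcm hne x hx => ?_
  have hgM : g ∈ M := h2 g (smul_fixed_of_commute hcm.symm)
  have hgW : fixedBy Ω (g * z * g⁻¹) = W := by rw [fixed_conj]; exact hgM
  have hord : orderOf (z * (g * z * g⁻¹)) = 2 := by
    have hzz : z * z = 1 := by
      have h2' := pow_orderOf_eq_one z
      rwa [hz, pow_two] at h2'
    have hyy : g * z * g⁻¹ * (g * z * g⁻¹) = 1 := by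
      rw [show g * z * g⁻¹ * (g * z * g⁻¹) = g * (z * z) * g⁻¹ by group, hzz, mul_one, mul_inv_cancel]
    refine orderOf_eq_prime ?_ fun e => hne ?_
    · rw [pow_two, hcm.symm.mul_mul_mul_comm, hzz, hyy, one_mul]
    · calc g * z * g⁻¹ = z * z * (g * z * g⁻¹) := by rw [hzz, one_mul]
        _ = z := by rw [mul_assoc, e, mul_one]
  have hwW : fixedBy Ω (z * (g * z * g⁻¹)) = W := (Set.eq_of_subset_of_ncard_le (fun a ha => by
      have h1 : a ∈ fixedBy Ω (g * z * g⁻¹) := hgW.symm ▸ ha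
      show (z * (g * z * g⁻¹)) • a = a
      rw [mul_smul, h1, ha]) (by
      rw [hzc]
      exact h _ (fun e => by rw [e, orderOf_one] at hord; omega) ⟨1, hord⟩) (Set.toFinite _)).symm
  show x • W = W
  rw [← hwW]
  exact smul_fixed_of_commute (mem_centralizer_singleton_iff.1 hx)

/-- The case of involutions with fixed points. -/
theorem two_case [IsSimpleGroup G] [FaithfulSMul G Ω] [IsPretransitive G Ω]
    (hfix : ∀ g : G, g ≠ 1 → Nat.card (fixedBy Ω g) ≤ 4) (S : Sylow 2 G) (f : ℕ) (hf1 : 1 ≤ f)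
    (hf : ∀ g : G, orderOf g = 2 → Nat.card (fixedBy Ω g) ≤ f)
    (hf' : ∃ g : G, orderOf g = 2 ∧ Nat.card (fixedBy Ω g) = f) :
    (∃ H : Subgroup G, Cfsg.IsStronglyEmbedded H) ∨
    (f ≤ 3 ∧ ((∃ n : ℕ, Nonempty ((S : Subgroup G) ≃* DihedralGroup n)) ∨
      Cfsg.IsQuasiDihedral (S : Subgroup G))) ∨
    (f = 4 ∧ Cfsg.SectionalPRankLE 2 4 G) := by
  haveI : Fact (Nat.Prime 2) := ⟨Nat.prime_two⟩
  obtain ⟨u₀, hu₀, hu₀f⟩ := hf'
  rw [Nat.card_coe_set_eq] at hu₀f
  have h : FixLE G Ω 2 f := fixLE_of_prime fun g hg => by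
    rw [← Nat.card_coe_set_eq]; exact hf g hg
  rcases central_or_config h S hu₀ hu₀f with ⟨z, hzS, hz, hzc, hzs, hall⟩ | ⟨z, u, D⟩
  · exact Or.inl (two_central hf1 h S hzS hz hzc hzs hall)
  have hf4 : f ≤ 4 := by
    rw [← hu₀f, ← Nat.card_coe_set_eq]
    exact hfix u₀ fun e => by rw [e, orderOf_one] at hu₀; omega
  rcases Nat.lt_or_ge f 4 with hlt | hge
  · exact Or.inr (Or.inl ⟨by omega, two_small h S D (by omega)⟩)
  · obtain rfl : f = 4 := by omega
    exact Or.inr (Or.inr ⟨rfl, sectional_of_sylow S (two_four S h D)⟩)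

end Cfsg.Lib.FixityFour
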