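import Cfsg.Agent.FixityFour.Groups

/-!
An elementary abelian group `E` of order 16 with a four-subgroup `K` whose nontrivial elements have centralizer
in `E`, the conjugates of `K` in the normalizer of `E` being disjoint: every section has rank at most 4.
-/

set_option autoImplicit false
set_option linter.unusedSectionVars false
set_option linter.style.haveILetI false

namespace Cfsg.Lib.FixityFour

open Subgroup
open Cfsg.Lib.DihedralByFour (SquareBound conj_card conj_eq_self_iff mem_conj le_or_le sectional_of_squareBound)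

/-- The product of two subgroups of a third one. -/
theorem card_mul_le {P : Type*} [Group P] [Finite P] {U V W : Subgroup P} (hU : U ≤ W) (hV : V ≤ W) :
    Nat.card U * Nat.card V ≤ Nat.card W * Nat.card ↥(U ⊓ V) := by
  have h1 := card_mul_index ((U ⊓ V).subgroupOf V)
  rw [Nat.card_congr (subgroupOfEquivOfLe (inf_le_right (a := U) (b := V))).toEquiv, ← relIndex,
    inf_relIndex_right] at h1
  have h2 := card_mul_index (U.subgroupOf W)
  rw [Nat.card_congr (subgroupOfEquivOfLe hU).toEquiv, ← relIndex] at h2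
  have h3 : U.relIndex V ≤ U.relIndex W := relIndex_le_of_le_right hV (by
    intro h; rw [h, mul_zero] at h2; exact (Nat.card_pos (α := W)).ne h2)
  rw [← h1, ← h2]
  calc Nat.card U * (Nat.card ↥(U ⊓ V) * U.relIndex V) ≤ Nat.card U * (Nat.card ↥(U ⊓ V) * U.relIndex W) :=
        Nat.mul_le_mul_left _ (Nat.mul_le_mul_left _ h3)
    _ = _ := by ring

/-- The situation. -/
structure Spread {P : Type*} [Group P] (E K : Subgroup P) : Prop where
  comm : ∀ a ∈ E, ∀ b ∈ E, Commute a b
  sq : ∀ a ∈ E, a * a = 1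
  cardE : Nat.card E = 16
  le : K ≤ E
  cardK : Nat.card K = 4
  cent : ∀ k ∈ K, k ≠ 1 → ∀ g, Commute g k → g ∈ E
  disj : ∀ g ∈ normalizer (E : Set P), ∀ k ∈ K, k ≠ 1 → g * k * g⁻¹ ∈ K → g ∈ E

namespace Spread

variable {P : Type*} [Group P] [Finite P] {E K : Subgroup P} (D : Spread E K)
include D

theorem conj_mem {g : P} (hg : g ∈ normalizer (E : Set P)) {e : P} (he : e ∈ E) : g * e * g⁻¹ ∈ E :=
  (mem_normalizer_iff.1 hg e).1 he

theorem conj_mem' {g : P} (hg : g ∈ normalizer (E : Set P)) {e : P} (he : e ∈ E) : g⁻¹ * e * g ∈ E := by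
  simpa using D.conj_mem (inv_mem hg) he

/-- The centralizer of a conjugate of a nontrivial element of `K`. -/
theorem cent_conj {g : P} (hg : g ∈ normalizer (E : Set P)) {k : P} (hk : k ∈ K) (hk1 : k ≠ 1) {x : P}
    (hx : Commute x (g * k * g⁻¹)) : x ∈ E := by
  have h1 : Commute (g⁻¹ * x * g) k := by
    have h2 : g⁻¹ * x * g * k = g⁻¹ * (x * (g * k * g⁻¹)) * g := by group
    show _ = _
    rw [h2, hx.eq]; group
  have := D.conj_mem hg (D.cent k hk hk1 _ h1)
  simpa [mul_assoc] using this

theorem meet {A : Subgroup P} (hA : A ≤ E) (h8 : 8 ≤ Nat.card A) : ∃ k ∈ K, k ≠ 1 ∧ k ∈ A := by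
  by_contra hc
  push Not at hc
  have : Nat.card (A × K) ≤ Nat.card E := Nat.card_le_card_of_injective
    (fun w => (⟨(w.1 : P) * w.2, mul_mem (hA w.1.2) (D.le w.2.2)⟩ : E)) fun v w h => by
      have e : (v.1 : P) * v.2 = w.1 * w.2 := congrArg Subtype.val h
      have e2 : (w.1 : P)⁻¹ * v.1 = w.2 * (v.2 : P)⁻¹ := by
        rw [eq_mul_inv_iff_mul_eq, mul_assoc, inv_mul_eq_iff_eq_mul, e]
      have h1 : (w.2 : P) * (v.2 : P)⁻¹ = 1 := by
        by_contra hne
        exact hc _ (mul_mem w.2.2 (inv_mem v.2.2)) hne (e2 ▸ mul_mem (inv_mem w.1.2) v.1.2)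
      exact Prod.ext (Subtype.ext (inv_mul_eq_one.1 (e2.trans h1)).symm) (Subtype.ext (mul_inv_eq_one.1 h1).symm)
  rw [Nat.card_prod, D.cardK, D.cardE] at this
  omega

/-- A commutative subgroup with a conjugate of a nontrivial element of `K` lies in `E`. -/
theorem le_of_line {F : Subgroup P} (hF : ∀ a ∈ F, ∀ b ∈ F, Commute a b) {g : P} (hg : g ∈ normalizer (E : Set P))
    {k : P} (hk : k ∈ K) (hk1 : k ≠ 1) (hm : g * k * g⁻¹ ∈ F) : F ≤ E := fun x hx =>
  D.cent_conj hg hk hk1 (hF x hx _ hm)

theorem card_out_le : 3 * (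
    E.subgroupOf (normalizer (E : Set P))).index ≤ 15 := by
  classical
  have hK3 : Nat.card {k : P // k ∈ K ∧ k ≠ 1} = 3 := by
    have h := Set.ncard_sdiff_singleton_of_mem (s := (K : Set P)) K.one_mem
    rw [← Nat.card_coe_set_eq, ← Nat.card_coe_set_eq (K : Set P), show Nat.card ((K : Set P) : Type _) = 4 from D.cardK] at h
    exact (Nat.card_congr (Equiv.subtypeEquivRight fun x => by simp [and_comm])).trans h
  have hE15 : Nat.card {e : P // e ∈ E ∧ e ≠ 1} = 15 := by
    have h := Set.ncard_sdiff_singleton_of_mem (s := (E : Set P)) E.one_mem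
    rw [← Nat.card_coe_set_eq, ← Nat.card_coe_set_eq (E : Set P), show Nat.card ((E : Set P) : Type _) = 16 from D.cardE] at h
    exact (Nat.card_congr (Equiv.subtypeEquivRight fun x => by simp [and_comm])).trans h
  rw [Subgroup.index, mul_comm, ← hK3, ← hE15, ← Nat.card_prod]
  refine Nat.card_le_card_of_injective (fun w => ⟨(w.1.out : P) * w.2.1 * (w.1.out : P)⁻¹,
    D.conj_mem w.1.out.2 (D.le w.2.2.1), fun e => w.2.2.2 (conj_eq_one_iff.1 e)⟩) ?_
  rintro ⟨q, k, hk, hk1⟩ ⟨q', k', hk', hk1'⟩ h
  set g := (q.out : P) with hg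
  set g' := (q'.out : P) with hg'
  have e : g * k * g⁻¹ = g' * k' * g'⁻¹ := congrArg Subtype.val h
  have hd : g'⁻¹ * g ∈ E := D.disj _ (mul_mem (inv_mem q'.out.2) q.out.2) k hk hk1 (by
    rw [show g'⁻¹ * g * k * (g'⁻¹ * g)⁻¹ = g'⁻¹ * (g * k * g⁻¹) * g' by group, e,
      show g'⁻¹ * (g' * k' * g'⁻¹) * g' = k' by group]
    exact hk')
  have hq : q' = q := by
    rw [← QuotientGroup.out_eq' q, ← QuotientGroup.out_eq' q', QuotientGroup.eq]
    exact mem_subgroupOf.2 hd
  subst hq
  have : k = k' := by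
    have e2 := congrArg (fun x => g⁻¹ * x * g) e
    simpa [mul_assoc, hg, hg'] using e2
  subst this
  rfl

/-- The points of `E` outside all conjugates of `K`. -/
theorem card_avoid {A : Subgroup P} (hA : A ≤ E)
    (hav : ∀ g ∈ normalizer (E : Set P), ∀ k ∈ K, k ≠ 1 → g * k * g⁻¹ ∉ A)
    (h4 : 4 ≤ (E.subgroupOf (normalizer (E : Set P))).index) : Nat.card A ≤ 4 := by
  classical
  set N := normalizer (E : Set P) with hN
  set Q := ↥N ⧸ E.subgroupOf N
  have hq : 4 ≤ Nat.card Q := h4
  have hsum : Nat.card (A ⊕ (Q × {k : P // k ∈ K ∧ k ≠ 1})) ≤ Nat.card E := by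
    refine Nat.card_le_card_of_injective (Sum.elim (fun a => (⟨a, hA a.2⟩ : E)) fun w =>
      ⟨(w.1.out : P) * w.2.1 * (w.1.out : P)⁻¹, D.conj_mem w.1.out.2 (D.le w.2.2.1)⟩) ?_
    rintro (a | ⟨q, k, hk, hk1⟩) (b | ⟨q', k', hk', hk1'⟩) h <;> have e := congrArg Subtype.val h
    · exact congrArg Sum.inl (Subtype.ext e)
    · have e' : (a : P) = (q'.out : P) * k' * (q'.out : P)⁻¹ := e
      exact absurd (e' ▸ a.2) (hav _ q'.out.2 k' hk' hk1')
    · have e' : (q.out : P) * k * (q.out : P)⁻¹ = (b : P) := e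
      exact absurd (e'.symm ▸ b.2) (hav _ q.out.2 k hk hk1)
    · set g := (q.out : P) with hg
      set g' := (q'.out : P) with hg'
      have e' : g * k * g⁻¹ = g' * k' * g'⁻¹ := e
      have hd : g'⁻¹ * g ∈ E := D.disj _ (mul_mem (inv_mem q'.out.2) q.out.2) k hk hk1 (by
        rw [show g'⁻¹ * g * k * (g'⁻¹ * g)⁻¹ = g'⁻¹ * (g * k * g⁻¹) * g' by group, e',
          show g'⁻¹ * (g' * k' * g'⁻¹) * g' = k' by group]
        exact hk')
      have hq : q' = q := by
        rw [← QuotientGroup.out_eq' q, ← QuotientGroup.out_eq' q', QuotientGroup.eq]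
        exact mem_subgroupOf.2 hd
      subst hq
      have : k = k' := by
        have e2 := congrArg (fun x => g⁻¹ * x * g) e'
        simpa [mul_assoc, hg, hg'] using e2
      subst this
      rfl
  have hK3 : Nat.card {k : P // k ∈ K ∧ k ≠ 1} = 3 := by
    have h := Set.ncard_sdiff_singleton_of_mem (s := (K : Set P)) K.one_mem
    rw [← Nat.card_coe_set_eq, ← Nat.card_coe_set_eq (K : Set P), show Nat.card ((K : Set P) : Type _) = 4 from D.cardK] at h
    exact (Nat.card_congr (Equiv.subtypeEquivRight fun x => by simp [and_comm])).trans h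
  rw [Nat.card_sum, Nat.card_prod, hK3, D.cardE] at hsum
  omega

theorem sectional (hP : IsPGroup 2 P) : Cfsg.SectionalPRankLE 2 4 P := by
  classical
  haveI : Fact (Nat.Prime 2) := ⟨Nat.prime_two⟩
  obtain ⟨k₀, hk₀, hk₀1⟩ : ∃ k ∈ K, k ≠ 1 := (K.bot_or_exists_ne_one).resolve_left fun e => by
    have := D.cardK; rw [e, card_bot] at this; omega
  set N := normalizer (E : Set P) with hN
  have hEN : E ≤ N := le_normalizer
  have hone : (1 : P) * k₀ * 1⁻¹ = k₀ := by group
  have hidx : Nat.card N = 16 * (E.subgroupOf N).index := by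
    rw [← card_mul_index (E.subgroupOf N), Nat.card_congr (subgroupOfEquivOfLe hEN).toEquiv, D.cardE]
  obtain ⟨i, hi⟩ := (hP.to_subgroup N).index (E.subgroupOf N)
  have hout : 3 * (E.subgroupOf N).index ≤ 15 := D.card_out_le
  have hi2 : i ≤ 2 := by
    by_contra hlt
    have : 2 ^ 3 ≤ 2 ^ i := Nat.pow_le_pow_right (by norm_num) (by omega)
    rw [← hi] at this
    omega
  have top_of : ∀ H : Subgroup P, (∀ g ∈ normalizer (H : Set P), g ∈ H) → H = ⊤ := fun H hH => by
    by_contra hne
    haveI := hP.isNilpotent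
    obtain ⟨g, hg, hgH⟩ := SetLike.exists_of_lt (Group.normalizerCondition_of_isNilpotent H (lt_top_iff_ne_top.2 hne))
    exact hgH (hH g hg)
  have hmap : ∀ g : P, ∀ x ∈ E.map (MulAut.conj g).toMonoidHom, ∀ y ∈ E.map (MulAut.conj g).toMonoidHom,
      Commute x y := by
    rintro g _ ⟨x, hx, rfl⟩ _ ⟨y, hy, rfl⟩
    exact (D.comm x hx y hy).map _
  have hk₀E := D.le hk₀
  interval_cases i
  · have hE : N = E := by
      refine (eq_of_le_of_card_ge hEN ?_).symm
      rw [hidx, D.cardE, hi]; norm_num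
    have htop := top_of E fun g hg => hE ▸ (show g ∈ N from hg)
    refine sectional_of_small hP (by rw [← card_top, ← htop, D.cardE]; norm_num) fun h => ?_
    rw [← card_top, ← htop, D.cardE] at h; omega
  · have hN32 : Nat.card N = 32 := by rw [hidx, hi]; norm_num
    have htop := top_of N fun g hg => by
      set F := E.map (MulAut.conj g).toMonoidHom with hF
      have hFN : F ≤ N := fun x hx => by
        rw [hF, mem_conj] at hx
        have := (mem_normalizer_iff.1 hg _).1 (hEN hx)
        simpa [mul_assoc] using this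
      have h8 : 8 ≤ Nat.card ↥(F ⊓ E) := by
        have h1 := card_mul_index ((F ⊓ E).subgroupOf F)
        rw [Nat.card_congr (subgroupOfEquivOfLe (inf_le_left (a := F) (b := E))).toEquiv, hF, conj_card, D.cardE,
          ← hF, ← relIndex, inf_relIndex_left] at h1
        have h2 : E.relIndex F ≤ E.relIndex N := relIndex_le_of_le_right hFN (by
          rw [relIndex, hi]; norm_num)
        rw [relIndex, relIndex, hi] at h2
        rw [relIndex] at h1
        nlinarith
      obtain ⟨k, hk, hk1, hkF⟩ := D.meet inf_le_right h8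
      have hle : F ≤ E := D.le_of_line (hmap g) (one_mem N) hk hk1 (by
        rw [one_mul, inv_one, mul_one]; exact hkF.1)
      exact conj_eq_self_iff.1 (eq_of_le_of_card_ge hle (conj_card E g).ge)
    refine sectional_of_small hP (by rw [← card_top, ← htop, hN32]) fun _ => ?_
    by_contra hc
    push Not at hc
    have hall : ∀ x : P, x ∈ E := fun x => D.cent k₀ hk₀ hk₀1 x (by
      have hi : ∀ y : P, y⁻¹ = y := fun y => inv_eq_of_mul_eq_one_right (hc y)
      calc x * k₀ = (x * k₀)⁻¹ := (hi _).symm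
        _ = k₀ * x := by rw [mul_inv_rev, hi, hi])
    have : Nat.card N ≤ Nat.card E := Nat.card_le_card_of_injective (fun x => ⟨(x : P), hall x⟩)
      fun a b h => Subtype.ext (congrArg (fun z : E => (z : P)) h)
    rw [hN32, D.cardE] at this; omega
  · have hN64 : Nat.card N = 64 := by rw [hidx, hi]; norm_num
    have h4 : 4 ≤ (E.subgroupOf N).index := by rw [hi]; norm_num
    by_cases hA : ∀ A : Subgroup P, A.Normal → IsMulCommutative A → (∀ a ∈ A, a ^ 2 = 1) → Nat.card A ≤ 4
    · exact Cfsg.Agent.S0501.result hP hA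
    push Not at hA
    obtain ⟨A, hAn, hAc, hA2, hA4⟩ := hA
    have hA2' : ∀ a ∈ A, a * a = 1 := fun a ha => by rw [← pow_two]; exact hA2 a ha
    have hcm : ∀ a ∈ A, ∀ b ∈ A, Commute a b := fun a ha b hb =>
      congrArg Subtype.val (mul_comm' (⟨a, ha⟩ : A) ⟨b, hb⟩)
    have hAconj : ∀ g : P, ∀ a ∈ A, g * a * g⁻¹ ∈ A := fun g a ha => hAn.conj_mem a ha g
    have htop : N = ⊤ := by
      by_cases hline : ∃ g ∈ N, ∃ k ∈ K, k ≠ 1 ∧ g * k * g⁻¹ ∈ A
      · obtain ⟨g, hg, k, hk, hk1, hm⟩ := hline
        have hAE : A ≤ E := D.le_of_line hcm hg hk hk1 hm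
        have hn : ∀ x : P, x ∈ N := fun x => by
          refine conj_eq_self_iff.1 (eq_of_le_of_card_ge (fun y hy => ?_) (conj_card E x).ge)
          obtain ⟨e, he, rfl⟩ := hy
          refine D.cent_conj hg hk hk1 ?_
          have h1 := hAconj x⁻¹ _ hm
          have h2 : Commute e (x⁻¹ * (g * k * g⁻¹) * x⁻¹⁻¹) := D.comm e he _ (hAE h1)
          have h3 := h2.map (MulAut.conj x).toMonoidHom
          simpa [mul_assoc] using h3
        exact eq_top_iff.2 fun x _ => hn x
      push Not at hline
      -- `A ⊓ E` is the fixed group of each nontrivial element of `K`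
      set D0 := A ⊓ E with hD0
      have hD4 : Nat.card D0 ≤ 4 := D.card_avoid inf_le_right (fun g hg k hk hk1 h => hline g hg k hk hk1 h.1) h4
      have hk₀2 : k₀ * k₀ = 1 := D.sq k₀ hk₀E
      haveI := hAn
      have hC : A ⊓ centralizer ({k₀} : Set P) = D0 := by
        ext x
        simp only [hD0, mem_inf, mem_centralizer_singleton_iff]
        exact ⟨fun h => ⟨h.1, D.cent k₀ hk₀ hk₀1 x h.2⟩, fun h => ⟨h.1, D.comm x h.2 k₀ hk₀E⟩⟩
      have hsq := card_le_fixed_sq hP A hAc hA2' hk₀2
      rw [hC] at hsq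
      have hD04 : Nat.card D0 = 4 := by
        refine le_antisymm hD4 ?_
        obtain ⟨j, hj⟩ := (hP.to_subgroup D0).exists_card_eq
        rw [hj] at hsq ⊢
        rcases j with _ | _ | j
        · norm_num at hsq; omega
        · norm_num at hsq; omega
        · calc 4 = 2 ^ 2 := by norm_num
            _ ≤ _ := Nat.pow_le_pow_right (by norm_num) (by omega)
      obtain ⟨a, haA, haE⟩ : ∃ a ∈ A, a ∉ E := by
        by_contra hc
        push Not at hc
        have : Nat.card A ≤ Nat.card D0 := Nat.card_le_card_of_injective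
          (fun a => (⟨a, a.2, hc a a.2⟩ : D0)) fun x y h => Subtype.ext (congrArg (fun z : D0 => (z : P)) h)
        omega
      -- `a` normalizes `E`
      have hai : a⁻¹ = a := inv_eq_of_mul_eq_one_right (hA2' a haA)
      have hKD : ∀ e ∈ E, ∃ k ∈ K, ∃ d ∈ D0, e = k * d := by
        have hinj : Function.Injective (fun w : K × D0 => (⟨(w.1 : P) * w.2, E.mul_mem (D.le w.1.2) w.2.2.2⟩ : E)) := by
          intro v w h
          have e : (v.1 : P) * v.2 = w.1 * w.2 := congrArg Subtype.val h
          have e2 : (w.1 : P)⁻¹ * v.1 = w.2 * (v.2 : P)⁻¹ := by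
            rw [eq_mul_inv_iff_mul_eq, mul_assoc, inv_mul_eq_iff_eq_mul, e]
          have h1 : (w.1 : P)⁻¹ * v.1 = 1 := by
            by_contra hne
            exact hline 1 (one_mem N) _ (mul_mem (inv_mem w.1.2) v.1.2) hne (by
              rw [one_mul, inv_one, mul_one, e2]; exact A.mul_mem w.2.2.1 (A.inv_mem v.2.2.1))
          exact Prod.ext (Subtype.ext (inv_mul_eq_one.1 h1).symm) (Subtype.ext (mul_inv_eq_one.1 (e2.symm.trans h1)).symm)
        have hbij := (Nat.bijective_iff_injective_and_card _).2 ⟨hinj, by rw [Nat.card_prod, D.cardK, hD04, D.cardE]⟩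
        intro e he
        obtain ⟨⟨k, d⟩, hkd⟩ := hbij.2 ⟨e, he⟩
        exact ⟨k, k.2, d, d.2, (congrArg Subtype.val hkd).symm⟩
      have haN : a ∈ N := by
        refine conj_eq_self_iff.1 (eq_of_le_of_card_ge (fun y hy => ?_) (conj_card E a).ge)
        obtain ⟨e, he, rfl⟩ := hy
        obtain ⟨k, hk, d, hd, rfl⟩ := hKD e he
        show a * (k * d) * a⁻¹ ∈ E
        rw [show a * (k * d) * a⁻¹ = (a * k * a⁻¹) * (a * d * a⁻¹) by group,
          show a * d * a⁻¹ = d by rw [(hcm a haA d hd.1).eq]; group]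
        refine E.mul_mem ?_ hd.2
        rcases eq_or_ne k 1 with rfl | hk1
        · rw [mul_one, mul_inv_cancel]; exact E.one_mem
        have hk2 : k * k = 1 := D.sq k (D.le hk)
        have hki : k⁻¹ = k := inv_eq_of_mul_eq_one_right hk2
        have hc' : k * a * k * a ∈ D0 := by
          have hm := hAconj k a haA
          rw [hki] at hm
          refine ⟨A.mul_mem hm haA, D.cent k hk hk1 _ ?_⟩
          show k * a * k * a * k = k * (k * a * k * a)
          calc k * a * k * a * k = (k * a * k) * (a * (k * k) * 1) * k := by rw [hk2]; group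
            _ = (k * a * k * a) * k := by rw [hk2]; group
            _ = (a * (k * a * k)) * k := by rw [(hcm _ hm a haA).eq]
            _ = a * k * a * (k * k) := by group
            _ = 1 * a * k * a := by rw [hk2]; group
            _ = k * (k * a * k * a) := by rw [← hk2]; group
        rw [hai, show a * k * a = k * (k * a * k * a) by
          rw [← mul_assoc, ← mul_assoc, ← mul_assoc, hk2, one_mul]]
        exact E.mul_mem (D.le hk) hc'.2
      refine top_of N fun g hg => ?_
      by_contra hgN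
      set F := E.map (MulAut.conj g).toMonoidHom with hF
      have hFN : F ≤ N := fun x hx => by
        rw [hF, mem_conj] at hx
        have := (mem_normalizer_iff.1 hg _).1 (hEN hx)
        simpa [mul_assoc] using this
      have hFne : F ≠ E := fun e => hgN (conj_eq_self_iff.1 e)
      have hav : ∀ x ∈ N, ∀ k ∈ K, k ≠ 1 → x * k * x⁻¹ ∉ F := fun x hx k hk hk1 h =>
        hFne (eq_of_le_of_card_ge (D.le_of_line (hmap g) hx hk hk1 h) (conj_card E g).ge)
      set I := F ⊓ E with hI
      have hI4 : Nat.card I ≤ 4 := D.card_avoid inf_le_right (fun x hx k hk hk1 h => hav x hx k hk hk1 h.1) h4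
      have hI4' : 4 ≤ Nat.card I := by
        have h1 := card_mul_le hFN hEN
        rw [hF, conj_card, D.cardE, ← hF, ← hI, hN64] at h1
        omega
      have hprod : ∀ x ∈ N, ∃ e ∈ E, ∃ f ∈ F, e * f = x := by
        set φ : F → ↥N ⧸ E.subgroupOf N := fun f => QuotientGroup.mk ⟨(f : P), hFN f.2⟩ with hφ
        have h1 : Nat.card F ≤ Nat.card (Set.range φ) * Nat.card ↥I :=
          Cfsg.Lib.DihedralByFour.card_subgroup_le (fun f => (⟨φ f, f, rfl⟩ : Set.range φ)) (I : Set P) fun f f' h =>
            ⟨F.mul_mem (F.inv_mem f.2) f'.2, mem_subgroupOf.1 (QuotientGroup.eq.1 (congrArg Subtype.val h))⟩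
        rw [show Nat.card F = 16 from (conj_card E g).trans D.cardE] at h1
        have hN4 : Nat.card (↥N ⧸ E.subgroupOf N) = 4 := by
          show (E.subgroupOf N).index = 4
          rw [hi]; norm_num
        have hsurj : Set.range φ = Set.univ := Set.eq_univ_of_forall fun y => by
          by_contra hy
          have : Nat.card (Set.range φ) < Nat.card (↥N ⧸ E.subgroupOf N) := Finite.card_subtype_lt hy
          rw [hN4] at this
          nlinarith
        intro x hx
        obtain ⟨f, hf⟩ : (QuotientGroup.mk ⟨x, hx⟩ : ↥N ⧸ E.subgroupOf N) ∈ Set.range φ := hsurj ▸ Set.mem_univ _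
        have h2 : (f : P)⁻¹ * x ∈ E := mem_subgroupOf.1 (QuotientGroup.eq.1 hf)
        exact ⟨_, D.conj_mem (hFN f.2) h2, f, f.2, by group⟩
      have hF2 : ∀ f ∈ F, f * f = 1 := by
        rintro _ ⟨e, he, rfl⟩
        show g * e * g⁻¹ * (g * e * g⁻¹) = 1
        rw [show g * e * g⁻¹ * (g * e * g⁻¹) = g * (e * e) * g⁻¹ by group, D.sq e he]; group
      have hinv : ∀ x ∈ N, x * x = 1 → x ∈ E ∨ x ∈ F := by
        intro x hx hx2
        obtain ⟨e, he, f, hf, rfl⟩ := hprod x hx
        by_cases hfE : f ∈ E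
        · exact Or.inl (E.mul_mem he hfE)
        have hcef : Commute f e := by
          show f * e = e * f
          calc f * e = (e * e) * (f * e) * (f * f) := by rw [D.sq e he, hF2 f hf]; group
            _ = e * (e * f * (e * f)) * f := by group
            _ = e * f := by rw [hx2]; group
        have hCe : Nat.card ↥(E ⊓ centralizer ({f} : Set P)) ≤ 4 := D.card_avoid inf_le_left (fun y hy k hk hk1 h =>
          hfE (D.cent_conj hy hk hk1 (mem_centralizer_singleton_iff.1 h.2).symm)) h4
        have hIe : I ≤ E ⊓ centralizer ({f} : Set P) := fun y hy =>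
          ⟨hy.2, mem_centralizer_singleton_iff.2 (hmap g y hy.1 f hf)⟩
        have := eq_of_le_of_card_ge hIe (hCe.trans hI4')
        exact Or.inr (F.mul_mem (this.symm.le ⟨he, mem_centralizer_singleton_iff.2 hcef.eq.symm⟩ : e ∈ I).1 hf)
      have haF : a ∈ F := (hinv a haN (hA2' a haA)).resolve_left haE
      have hID : I = D0 := by
        have hle : D0 ≤ I := fun d hd => by
          refine ⟨?_, hd.2⟩
          rcases hinv (a * d) (N.mul_mem haN (hEN hd.2)) (hA2' _ (A.mul_mem haA hd.1)) with h | h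
          · exact absurd ((E.mul_mem_cancel_right hd.2).1 h) haE
          · exact (F.mul_mem_cancel_left haF).1 h
        exact (eq_of_le_of_card_ge hle (hI4.trans hD04.ge)).symm
      have hgconj : ∀ x ∈ N, g * x * g⁻¹ ∈ N := fun x hx => (mem_normalizer_iff.1 hg x).1 hx
      obtain ⟨e, he, hea⟩ := haF
      have hea' : g * e * g⁻¹ = a := hea
      have heD : e ∈ D0 := ⟨by
        have := hAconj g⁻¹ a haA
        rw [← hea'] at this
        simpa [mul_assoc] using this, he⟩
      -- `g` interchanges `E` and `F`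
      have hgF : ∀ f ∈ F, g * f * g⁻¹ ∈ E := by
        set F' := F.map (MulAut.conj g).toMonoidHom with hF'
        have hu : ∀ y ∈ F', y ∈ E ∨ y ∈ F := by
          rintro _ ⟨f, hf, rfl⟩
          refine hinv _ (hgconj f (hFN hf)) ?_
          show g * f * g⁻¹ * (g * f * g⁻¹) = 1
          rw [show g * f * g⁻¹ * (g * f * g⁻¹) = g * (f * f) * g⁻¹ by group, hF2 f hf]; group
        rcases le_or_le hu with h | h
        · exact fun f hf => h ⟨f, hf, rfl⟩
        · exfalso
          refine hFne ?_
          have h2 := eq_of_le_of_card_ge h (conj_card F g).ge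
          have h3 : F' = F := h2
          have h4' := Subgroup.map_injective (MulAut.conj g).injective (h3.trans hF)
          exact h4'
      have : g * e * g⁻¹ ∈ D0 := ⟨hAconj g e heD.1, hgF e (hID.symm ▸ heD : e ∈ I).1⟩
      exact haE (hea' ▸ this.2)
    -- no section of rank 5 in a group of order 64
    have hP64 : Nat.card P = 64 := by rw [← card_top, ← htop, hN64]
    obtain ⟨S⟩ : Nonempty (Sylow 2 P) := inferInstance
    refine sectional_of_squareBound S fun H M _ hMH hsq => ?_
    by_contra hc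
    push Not at hc
    obtain ⟨a, ha⟩ := (hP.to_subgroup H).exists_card_eq
    obtain ⟨b, hb⟩ := (hP.to_subgroup M).exists_card_eq
    have hHP := H.card_le_card_group
    rw [ha, hP64, show (64 : ℕ) = 2 ^ 6 by norm_num] at hHP
    have ha6 := (Nat.pow_le_pow_iff_right (by norm_num : 1 < 2)).1 hHP
    rw [ha, hb, show (16 : ℕ) = 2 ^ 4 by norm_num, ← pow_add] at hc
    have h5 := (Nat.pow_lt_pow_iff_right (by norm_num : 1 < 2)).1 hc
    rcases Nat.eq_zero_or_pos b with hb0 | hb0
    · have hM : M = ⊥ := card_eq_one.1 (by rw [hb, hb0, pow_zero])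
      have h2 : ∀ h ∈ H, h * h = 1 := fun h hh => mem_bot.1 (hM ▸ hsq h hh)
      have hi' : ∀ h ∈ H, h⁻¹ = h := fun h hh => inv_eq_of_mul_eq_one_right (h2 h hh)
      have hcH : ∀ x ∈ H, ∀ y ∈ H, Commute x y := fun x hx y hy => by
        show x * y = y * x
        calc x * y = (x * y)⁻¹ := (hi' _ (H.mul_mem hx hy)).symm
          _ = y * x := by rw [mul_inv_rev, hi' x hx, hi' y hy]
      have h8 : 8 ≤ Nat.card ↥(H ⊓ E) := by
        have h1 := card_mul_le (le_top : H ≤ ⊤) (le_top : E ≤ ⊤)
        rw [card_top, hP64, D.cardE] at h1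
        have h3 : 2 ^ 5 ≤ Nat.card H := ha ▸ Nat.pow_le_pow_right (by norm_num) (by omega)
        omega
      obtain ⟨k, hk, hk1, hkH⟩ := D.meet inf_le_right h8
      have hle : H ≤ E := D.le_of_line hcH (one_mem N) hk hk1 (by rw [one_mul, inv_one, mul_one]; exact hkH.1)
      have := card_le_of_le hle
      have h3 : 2 ^ 5 ≤ Nat.card H := ha ▸ Nat.pow_le_pow_right (by norm_num) (by omega)
      rw [D.cardE] at this
      omega
    · have hHtop : H = ⊤ := H.eq_top_of_le_card (by
        rw [ha, show a = 6 by omega, hP64]; norm_num)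
      have hM2 : Nat.card M = 2 := by rw [hb, show b = 1 by omega, pow_one]
      have hNE : ∃ x : P, x ∉ E := by
        by_contra hall
        push Not at hall
        have : Nat.card P ≤ Nat.card E := Nat.card_le_card_of_injective (fun x => ⟨x, hall x⟩)
          fun x y h => congrArg Subtype.val h
        rw [hP64, D.cardE] at this; omega
      obtain ⟨x, hx⟩ := hNE
      have hxN : x ∈ N := htop ▸ mem_top x
      have hval : ∀ k ∈ K, k * (x * k * x⁻¹) ∈ M := fun k hk => by
        have h1 := Cfsg.Lib.DihedralByFour.comm_mem_of_squares hsq (hHtop ▸ mem_top k : k ∈ H) (hHtop ▸ mem_top x : x ∈ H)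
        rwa [inv_eq_of_mul_eq_one_right (D.sq k (D.le hk)), show k * x * k * x⁻¹ = k * (x * k * x⁻¹) by group] at h1
      have hinj : Function.Injective (fun k : K => (⟨(k : P) * (x * k * x⁻¹), hval k k.2⟩ : M)) := fun k l h => by
        have e : (k : P) * (x * k * x⁻¹) = l * (x * l * x⁻¹) := congrArg Subtype.val h
        by_contra hne
        refine hx (D.cent ((l : P) * k) (K.mul_mem l.2 k.2) (fun e1 => hne ?_) x ?_)
        · exact Subtype.ext ((eq_inv_of_mul_eq_one_right e1).trans (inv_eq_of_mul_eq_one_right (D.sq l (D.le l.2))))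
        · show x * (l * k) = l * k * x
          have hxk : x * (k : P) * x⁻¹ ∈ E := D.conj_mem hxN (D.le k.2)
          calc x * (l * k) = (x * l * x⁻¹) * (x * k * x⁻¹) * x := by group
            _ = ((l : P) * l) * (x * l * x⁻¹) * (x * k * x⁻¹) * x := by rw [D.sq l (D.le l.2), one_mul]
            _ = l * (l * (x * l * x⁻¹)) * (x * k * x⁻¹) * x := by group
            _ = l * (k * (x * k * x⁻¹)) * (x * k * x⁻¹) * x := by rw [e]
            _ = l * k * ((x * k * x⁻¹) * (x * k * x⁻¹)) * x := by group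
            _ = l * k * x := by rw [D.sq _ hxk, mul_one]
      have := Nat.card_le_card_of_injective _ hinj
      rw [D.cardK, hM2] at this
      omega

end Spread

end Cfsg.Lib.FixityFour
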