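import Cfsg.Agent.FixityFour.ThreeBasic
import Cfsg.Agent.PGroups.Basic
import Cfsg.Agent.Coprime.Basic

/-!
The prime three, configuration case: the Sylow subgroup has order nine or a transfer is nontrivial.
-/

set_option autoImplicit false
set_option linter.unusedSectionVars false
set_option linter.style.haveILetI false

namespace Cfsg.Lib.FixityFour

open MulAction Subgroup
open scoped Pointwise

variable {G Ω : Type*} [Group G] [Finite G] [MulAction G Ω] [Finite Ω] [Fact (Nat.Prime 3)]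

/-- Commuting elements normalise the cyclic group. -/
theorem mem_norm_zpowers {z u : G} (h : Commute z u) : z ∈ normalizer (zpowers u : Set G) := by
  refine mem_normalizer_iff.2 fun x => ⟨fun hx => ?_, fun hx => ?_⟩
  · obtain ⟨k, rfl⟩ := mem_zpowers_iff.1 hx
    rw [(h.zpow_right k).eq, mul_inv_cancel_right]
    exact zpow_mem (mem_zpowers u) k
  · obtain ⟨k, hk⟩ := mem_zpowers_iff.1 hx
    have : x = u ^ k := by
      have h' : z⁻¹ * u ^ k * z = x := by rw [hk]; group
      rw [← h', mul_assoc, ← (h.zpow_right k).eq, inv_mul_cancel_left]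
    rw [this]
    exact zpow_mem (mem_zpowers u) k

/-- A conjugation mapping a finite subgroup into itself normalises it. -/
theorem mem_normalizer_of_card_eq {E : Subgroup G} {g : G} (h : ∀ e ∈ E, g * e * g⁻¹ ∈ E) :
    g ∈ normalizer (E : Set G) := by
  have hle : E.map (MulAut.conj g).toMonoidHom ≤ E := by
    rintro _ ⟨e, he, rfl⟩; exact h e he
  have heq := eq_of_le_of_card_ge hle (card_map_of_injective (MulAut.conj g).injective).ge
  refine mem_normalizer_iff.2 fun x => ⟨h x, fun hx => ?_⟩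
  rw [← heq] at hx
  obtain ⟨e, he, hee⟩ := hx
  exact (MulAut.conj g).injective hee ▸ he

/-- A `3`-group commuting with `z` and `u` has order at most nine. -/
theorem card_le_nine {c : ℕ} (hc4 : c ≤ 4) (hle : FixLE G Ω 3 c) {z u : G} (hzc : (fixedBy Ω z).ncard = c)
    (huc : (fixedBy Ω u).ncard = c) (hne : fixedBy Ω z ≠ fixedBy Ω u) {R : Subgroup G} (hR : IsPGroup 3 R)
    (hz : ∀ r ∈ R, Commute r z) (hu : ∀ r ∈ R, Commute r u) : Nat.card R ≤ 9 := by
  set W := fixedBy Ω z with hW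
  set W' := fixedBy Ω u with hW'
  have hQ : ∀ r ∈ R, r • W = W := fun r hr => smul_fixed_of_commute (hz r hr)
  rw [card_eq_kernel_mul R W hQ]
  set U := R ⊓ fixingSubgroup G W
  have hU : Nat.card U ≤ 3 := by
    obtain ⟨d, hd⟩ : (W' \ W).Nonempty := by
      rw [Set.nonempty_iff_ne_empty]
      intro e
      exact hne (Set.eq_of_subset_of_ncard_le (Set.sdiff_eq_empty.1 e) (by rw [hzc, huc]) (Set.toFinite _)).symm
    have h4 := hle.card_le_of_invariant hR (U := U) inf_le_left (W := W) (D := W' \ W) hzc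
      (fun k hk => (mem_fixingSubgroup_iff G).1 hk.2) (fun k hk x hx => ?_) hd hd.2
    · have h4' : Nat.card U ≤ 4 := h4.trans ((Set.ncard_le_ncard Set.sdiff_subset (Set.toFinite _)).trans
        (by rw [huc]; exact hc4))
      obtain ⟨k, hk⟩ := IsPGroup.iff_card.1 (hR.to_le (inf_le_left : U ≤ R))
      rw [hk] at h4' ⊢
      rcases k with _ | _ | k
      · norm_num
      · norm_num
      · exfalso
        exact absurd ((Nat.pow_le_pow_right (show 0 < 3 by norm_num) (show 2 ≤ k + 1 + 1 by omega)).trans h4')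
          (by norm_num)
    · have h1 : k • W' = W' := smul_fixed_of_commute (hu k hk.1)
      refine ⟨h1 ▸ Set.smul_mem_smul_set hx.1, fun hxW => hx.2 ?_⟩
      have h2 := (mem_fixingSubgroup_iff G).1 hk.2 _ hxW
      rwa [MulAction.injective k h2] at hxW
  exact (Nat.mul_le_mul hU (card_range_le_three hR (by rw [Nat.card_coe_set_eq, hzc]; exact hc4) _)).trans
    (by norm_num)

/-- An involution fixes a point of an invariant set of odd size. -/
theorem exists_fixed_of_involution {i : G} (hi : orderOf i = 2) {X : Set Ω} (hX : i • X = X) (hodd : Odd X.ncard) :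
    ∃ w : Ω, i • w = w := by
  classical
  haveI : Fact (Nat.Prime 2) := ⟨Nat.prime_two⟩
  haveI := Fintype.ofFinite X
  have hQ : ∀ g ∈ zpowers i, g • X = X := fun g hg =>
    (zpowers_le.2 (show i ∈ stabilizer G X from hX) hg : g ∈ stabilizer G X)
  obtain ⟨w, hw⟩ := Equiv.Perm.exists_fixed_point_of_prime (p := 2) (n := 1)
    (σ := permOn (zpowers i) X hQ ⟨i, mem_zpowers i⟩)
    (by rw [← Nat.card_eq_fintype_card, Nat.card_coe_set_eq]; exact fun hd => Nat.not_even_iff_odd.2 hodd (even_iff_two_dvd.2 hd))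
    (by rw [← map_pow]
        convert map_one (permOn (zpowers i) X hQ)
        exact Subtype.ext (by rw [SubgroupClass.coe_pow, pow_one, ← hi, pow_orderOf_eq_one, coe_one]))
  exact ⟨w, congrArg Subtype.val hw⟩

/-- The data of the configuration case. -/
structure ThreeData (G Ω : Type*) [Group G] [MulAction G Ω] (P : Subgroup G) (c : ℕ) (z u z₀ : G) : Prop where
  stab : ∀ w : Ω, Odd (Nat.card (stabilizer G w))
  le_four : c ≤ 4
  fix : FixLE G Ω 3 c
  cfg : Config Ω 3 c P z u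
  isP : IsPGroup 3 P
  z0P : z₀ ∈ P
  z0o : orderOf z₀ = 3
  z0c : ∀ s ∈ P, Commute s z₀
  big : 9 < Nat.card P

namespace Config

variable {P : Subgroup G} {c : ℕ} {z u : G}

theorem card_cent (h : Config Ω 3 c P z u) (hP : IsPGroup 3 P) (hc4 : c ≤ 4) (hle : FixLE G Ω 3 c) :
    Nat.card (cent P u) = 9 ∧ zpowers z ⊔ zpowers u = cent P u := by
  have hz : z ∈ cent P u := mem_cent.2 ⟨h.zS, h.comm⟩
  have hu : u ∈ cent P u := mem_cent.2 ⟨h.uS, Commute.refl u⟩
  have hle' : zpowers z ⊔ zpowers u ≤ cent P u := sup_le (zpowers_le.2 hz) (zpowers_le.2 hu)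
  have h9 : Nat.card (cent P u) ≤ 9 := card_le_nine hc4 hle h.cz h.cu h.ne (hP.to_le inf_le_left)
    (fun r hr => h.central r (mem_cent.1 hr).1 (mem_cent.1 hr).2) (fun r hr => (mem_cent.1 hr).2)
  have hge : 9 ≤ Nat.card ↥(zpowers z ⊔ zpowers u) := by
    obtain ⟨k, hk⟩ := IsPGroup.iff_card.1 ((hP.to_le inf_le_left : IsPGroup 3 (cent P u)).to_le hle')
    by_contra hlt
    have hk1 : k ≤ 1 := by
      by_contra hk'
      exact hlt ((show 9 = 3 ^ 2 by norm_num).le.trans (hk ▸ Nat.pow_le_pow_right (by norm_num) (by omega)))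
    have hzu : zpowers z = zpowers z ⊔ zpowers u := eq_of_le_of_card_ge le_sup_left (by
      rw [hk, Nat.card_zpowers, h.zp]; exact (Nat.pow_le_pow_right (by norm_num) hk1).trans (pow_one 3).le)
    obtain ⟨j, hj⟩ := mem_zpowers_iff.1 (hzu.ge (mem_sup_right (mem_zpowers u)))
    refine h.ne (Set.eq_of_subset_of_ncard_le ?_ (by rw [h.cz, h.cu]) (Set.toFinite _))
    intro w hw
    rw [mem_fixedBy, ← hj]
    exact (Subgroup.zpow_mem (stabilizer G w) hw j : z ^ j ∈ stabilizer G w)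
  have heq := eq_of_le_of_card_ge hle' (h9.trans hge)
  exact ⟨le_antisymm h9 (heq ▸ hge), heq⟩

theorem exp_three (h : Config Ω 3 c P z u) (hP : IsPGroup 3 P) (hc4 : c ≤ 4) (hle : FixLE G Ω 3 c)
    {e : G} (he : e ∈ cent P u) : e ^ 3 = 1 := by
  rw [← (h.card_cent hP hc4 hle).2, sup_comm] at he
  have hn : zpowers z ≤ normalizer (zpowers u : Set G) := zpowers_le.2 (mem_norm_zpowers h.comm)
  obtain ⟨a, ha, b, hb, rfl⟩ := (Cfsg.Lib.Coprime.mem_sup_of_le_normalizer' hn).1 he
  obtain ⟨i, rfl⟩ := mem_zpowers_iff.1 ha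
  obtain ⟨j, rfl⟩ := mem_zpowers_iff.1 hb
  have hz3 : z ^ (3 : ℤ) = 1 := by rw [zpow_ofNat, ← h.zp, pow_orderOf_eq_one]
  have hu3 : u ^ (3 : ℤ) = 1 := by rw [zpow_ofNat, ← h.up, pow_orderOf_eq_one]
  rw [((h.comm.zpow_left i).zpow_right j).mul_pow, ← zpow_natCast, ← zpow_natCast (u ^ j), ← zpow_mul, ← zpow_mul,
    mul_comm i, mul_comm j, zpow_mul, zpow_mul, Nat.cast_ofNat, hz3, hu3, one_zpow, one_zpow, one_mul]

end Config

namespace ThreeData

variable {P : Subgroup G} {c : ℕ} {z u z₀ : G} (D : ThreeData G Ω P c z u z₀)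

include D

theorem card_E : Nat.card (cent P u) = 9 := (D.cfg.card_cent D.isP D.le_four D.fix).1

theorem exp {e : G} (he : e ∈ cent P u) : e ^ 3 = 1 := D.cfg.exp_three D.isP D.le_four D.fix he

theorem u_mem : u ∈ cent P u := mem_cent.2 ⟨D.cfg.uS, Commute.refl u⟩

theorem z0_mem : z₀ ∈ cent P u := mem_cent.2 ⟨D.z0P, (D.z0c u D.cfg.uS).symm⟩

theorem z_mem : z ∈ cent P u := mem_cent.2 ⟨D.cfg.zS, D.cfg.comm⟩

theorem not_central : ¬ ∀ s ∈ P, Commute s u := fun h => by
  have hle : P ≤ cent P u := fun s hs => mem_cent.2 ⟨hs, h s hs⟩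
  have := card_le_of_le hle
  have := D.card_E
  have := D.big
  omega

theorem u_notMem : u ∉ zpowers z₀ := fun hu => D.not_central fun s hs => by
  obtain ⟨k, hk⟩ := mem_zpowers_iff.1 hu
  exact hk ▸ (D.z0c s hs).zpow_right k

theorem comm_E {e f : G} (he : e ∈ cent P u) (hf : f ∈ cent P u) : Commute e f := by
  haveI := IsPGroup.isMulCommutative_of_card_eq_prime_sq (p := 3) (G := cent P u) (by rw [D.card_E]; norm_num)
  exact congrArg Subtype.val (mul_comm' (⟨e, he⟩ : cent P u) ⟨f, hf⟩)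

theorem dec {e : G} (he : e ∈ cent P u) : ∃ i j : ℕ, i < 3 ∧ j < 3 ∧ e = u ^ i * z₀ ^ j := by
  have hc : Commute u z₀ := (D.z0c u D.cfg.uS)
  have hle : zpowers u ⊔ zpowers z₀ ≤ cent P u := sup_le (zpowers_le.2 D.u_mem) (zpowers_le.2 D.z0_mem)
  have heq : zpowers u ⊔ zpowers z₀ = cent P u := by
    refine eq_of_le_of_card_ge hle ?_
    rw [D.card_E]
    obtain ⟨k, hk⟩ := IsPGroup.iff_card.1 ((D.isP.to_le inf_le_left : IsPGroup 3 (cent P u)).to_le hle)
    by_contra hlt
    have hk1 : k ≤ 1 := by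
      by_contra hk'
      exact hlt ((show 9 = 3 ^ 2 by norm_num).le.trans (hk ▸ Nat.pow_le_pow_right (by norm_num) (by omega)))
    have hzu : zpowers z₀ = zpowers u ⊔ zpowers z₀ := eq_of_le_of_card_ge le_sup_right (by
      rw [hk, Nat.card_zpowers, D.z0o]; exact (Nat.pow_le_pow_right (by norm_num) hk1).trans (pow_one 3).le)
    exact D.u_notMem (hzu.ge (mem_sup_left (mem_zpowers u)))
  rw [← heq, sup_comm] at he
  have hn : zpowers u ≤ normalizer (zpowers z₀ : Set G) :=
    zpowers_le.2 (mem_norm_zpowers hc)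
  obtain ⟨a, ha, b, hb, rfl⟩ := (Cfsg.Lib.Coprime.mem_sup_of_le_normalizer' hn).1 he
  have hpow : ∀ {x y : G}, orderOf x = 3 → y ∈ zpowers x → ∃ i : ℕ, i < 3 ∧ y = x ^ i := fun {x y} hx hy => by
    obtain ⟨n, hn⟩ := mem_powers_iff_mem_zpowers.2 hy
    exact ⟨n % 3, Nat.mod_lt _ (by norm_num), by rw [← hn, ← hx, pow_mod_orderOf]⟩
  obtain ⟨i, hi, rfl⟩ := hpow D.cfg.up ha
  obtain ⟨j, hj, rfl⟩ := hpow D.z0o hb
  exact ⟨i, j, hi, hj, rfl⟩

theorem u3 : u ^ 3 = 1 := D.exp D.u_mem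

theorem z3 : z₀ ^ 3 = 1 := D.exp D.z0_mem

/-- an element moving `u` to `u z₀` -/
theorem exists_shear : ∃ n ∈ P, n ∈ normalizer (cent P u : Set G) ∧ n * u * n⁻¹ = u * z₀ := by
  set E := cent P u with hE
  have hEP : E ≤ P := inf_le_left
  haveI := D.isP.isNilpotent
  have hlt : E.subgroupOf P < ⊤ := lt_top_iff_ne_top.2 fun e => by
    have := card_le_of_le (subgroupOf_eq_top.1 e)
    have : Nat.card E = 9 := D.card_E
    have := D.big
    omega
  obtain ⟨⟨n, hnP⟩, hn, hnE⟩ := SetLike.exists_of_lt (Group.normalizerCondition_of_isNilpotent _ hlt)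
  have hconj : ∀ e ∈ E, n * e * n⁻¹ ∈ E := fun e he => (mem_normalizer_iff.1 hn ⟨e, hEP he⟩).1 he
  have hnN : n ∈ normalizer (E : Set G) := by
    refine Cfsg.Lib.FixityFour.mem_normalizer_of_card_eq hconj
  have hnu : ¬ Commute n u := fun h => hnE (mem_cent.2 ⟨hnP, h⟩)
  have hnz : Commute n z₀ := D.z0c n hnP
  obtain ⟨i, j, hi, hj, hij⟩ := D.dec (hconj u D.u_mem)
  have hzu : Commute u z₀ := D.z0c u D.cfg.uS
  have hzpow : ∀ t : ℕ, n * z₀ ^ t * n⁻¹ = z₀ ^ t := fun t => by rw [(hnz.pow_right t).eq, mul_inv_cancel_right]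
  have hi1 : i = 1 := by
    rcases (show i = 0 ∨ i = 1 ∨ i = 2 by omega) with e | e | e <;> subst e
    · refine absurd ?_ D.u_notMem
      rw [pow_zero, one_mul] at hij
      rw [show u = n⁻¹ * (n * u * n⁻¹) * n by group, hij, mul_assoc, ← (hnz.pow_right j).eq, inv_mul_cancel_left]
      exact pow_mem (mem_zpowers z₀) j
    · rfl
    · exfalso
      have h2 : n * n * u * (n * n)⁻¹ = u := by
        calc n * n * u * (n * n)⁻¹ = n * (n * u * n⁻¹) * n⁻¹ := by group
          _ = n * (u ^ 2 * z₀ ^ j) * n⁻¹ := by rw [hij]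
          _ = (n * u * n⁻¹) ^ 2 * (n * z₀ ^ j * n⁻¹) := by rw [conj_pow]; group
          _ = (u ^ 2) ^ 2 * (z₀ ^ j) ^ 2 * z₀ ^ j := by rw [hij, hzpow, ((hzu.pow_left 2).pow_right j).mul_pow]
          _ = u := by
            rw [← pow_mul, ← pow_mul, mul_assoc, ← pow_add, show j * 2 + j = 3 * j by ring, pow_mul z₀, D.z3,
              one_pow, mul_one, show 2 * 2 = 3 + 1 from rfl, pow_succ, D.u3, one_mul]
      obtain ⟨k, hk⟩ := IsPGroup.iff_orderOf.1 D.isP ⟨n, hnP⟩
      rw [Subgroup.orderOf_mk] at hk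
      obtain ⟨m, hm⟩ : Odd (orderOf n) := by rw [hk]; exact (show Odd 3 by decide).pow
      refine hnu ?_
      have hc2 : Commute (n * n) u := mul_inv_eq_iff_eq_mul.1 h2
      have : n = (n * n) ^ (m + 1) := by
        rw [← pow_two, ← pow_mul, show 2 * (m + 1) = orderOf n + 1 by omega, pow_succ, pow_orderOf_eq_one, one_mul]
      rw [this]
      exact hc2.pow_left _
  subst hi1
  rw [pow_one] at hij
  have hj0 : j ≠ 0 := fun e => hnu (by
    rw [e, pow_zero, mul_one] at hij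
    exact mul_inv_eq_iff_eq_mul.1 hij)
  have hpow : ∀ k : ℕ, n ^ k * u * (n ^ k)⁻¹ = u * (z₀ ^ j) ^ k := by
    intro k
    induction k with
    | zero => simp
    | succ k ih =>
      calc n ^ (k + 1) * u * (n ^ (k + 1))⁻¹ = n * (n ^ k * u * (n ^ k)⁻¹) * n⁻¹ := by rw [pow_succ']; group
        _ = (n * u * n⁻¹) * (n * z₀ ^ (j * k) * n⁻¹) := by rw [ih, ← pow_mul]; group
        _ = u * (z₀ ^ j) ^ (k + 1) := by rw [hij, hzpow, mul_assoc, ← pow_add, ← pow_mul]; ring_nf
  refine ⟨n ^ j, pow_mem hnP j, pow_mem hnN j, ?_⟩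
  rw [hpow j, ← pow_mul]
  rcases (show j = 1 ∨ j = 2 by omega) with e | e <;> subst e
  · rw [mul_one, pow_one]
  · rw [show 2 * 2 = 3 + 1 from rfl, pow_succ, D.z3, one_mul]

/-- `u` and every element outside `⟨z₀⟩` up to inversion -/
theorem conj_or {e : G} (he : e ∈ cent P u) (he0 : e ∉ zpowers z₀) : IsConj u e ∨ IsConj u e⁻¹ := by
  obtain ⟨n, hnP, -, hn⟩ := D.exists_shear
  have hnz : Commute n z₀ := D.z0c n hnP
  have hpow : ∀ t : ℕ, IsConj u (u * z₀ ^ t) := by
    intro t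
    induction t with
    | zero => rw [pow_zero, mul_one]
    | succ t ih =>
      refine ih.trans (isConj_iff.2 ⟨n, ?_⟩)
      calc n * (u * z₀ ^ t) * n⁻¹ = (n * u * n⁻¹) * (n * z₀ ^ t * n⁻¹) := by group
        _ = u * z₀ ^ (t + 1) := by
          rw [hn, (hnz.pow_right t).eq, mul_inv_cancel_right, mul_assoc, ← pow_succ']
  obtain ⟨i, j, hi, hj, rfl⟩ := D.dec he
  rcases (show i = 0 ∨ i = 1 ∨ i = 2 by omega) with e' | e' | e' <;> subst e'
  · exact absurd (by rw [pow_zero, one_mul]; exact pow_mem (mem_zpowers z₀) j) he0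
  · exact Or.inl (by rw [pow_one]; exact hpow j)
  · refine Or.inr ?_
    have hzu : Commute u z₀ := D.z0c u D.cfg.uS
    have : (u ^ 2 * z₀ ^ j)⁻¹ = u * z₀ ^ (2 * j) := by
      refine inv_eq_of_mul_eq_one_right ?_
      rw [mul_assoc, ← mul_assoc (z₀ ^ j), ← (hzu.pow_right j).eq, mul_assoc u, ← pow_add,
        show j + 2 * j = 3 * j by ring, pow_mul, D.z3, one_pow, mul_one, ← pow_succ, D.u3]
    rw [this]
    exact hpow _

theorem fixed_card {e : G} (he : e ∈ cent P u) (he0 : e ∉ zpowers z₀) : (fixedBy Ω e).ncard = c := by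
  rcases D.conj_or he he0 with h | h <;> obtain ⟨g, hg⟩ := isConj_iff.1 h
  · rw [← hg, fixed_conj, ncard_smul, D.cfg.cu]
  · rw [← inv_inv e, MulAction.fixedBy_inv, ← hg, fixed_conj, ncard_smul, D.cfg.cu]

/-- no involution normalises `E` -/
theorem no_involution {i : G} (hi : orderOf i = 2) (hin : i ∈ normalizer (cent P u : Set G)) : False := by
  classical
  have hpt : ∀ w : Ω, i • w ≠ w := fun w hw => by
    have h1 := orderOf_dvd_natCard (⟨i, hw⟩ : stabilizer G w)
    rw [← Subgroup.orderOf_coe] at h1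
    change orderOf i ∣ _ at h1
    rw [hi] at h1
    exact Nat.not_even_iff_odd.2 (D.stab w) (even_iff_two_dvd.2 h1)
  set E := cent P u
  have hii : i⁻¹ = i := inv_eq_of_mul_eq_one_right (by rw [← pow_two, ← hi, pow_orderOf_eq_one])
  have hconj : ∀ e ∈ E, i * e * i ∈ E := fun e he => by
    have := (mem_normalizer_iff.1 hin e).1 he
    rwa [hii] at this
  set W := fixedBy Ω z with hW
  set W' := fixedBy Ω u with hW'
  -- `z` moves three points of `W'`
  have hdiff : 3 ≤ (W' \ W).ncard := by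
    obtain ⟨d, hd⟩ : (W' \ W).Nonempty := by
      rw [Set.nonempty_iff_ne_empty]
      intro e
      exact D.cfg.ne (Set.eq_of_subset_of_ncard_le (Set.sdiff_eq_empty.1 e) (by rw [D.cfg.cz, D.cfg.cu])
        (Set.toFinite _)).symm
    have h3 := D.fix.card_le_of_invariant (D.isP) (U := zpowers z) (zpowers_le.2 D.cfg.zS) (W := W) (D := W' \ W)
      D.cfg.cz (fun k hk x hx => by
        exact (zpowers_le.2 (show z ∈ stabilizer G x from hx) hk : k ∈ stabilizer G x))
      (fun k hk x hx => ?_) hd hd.2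
    · rwa [Nat.card_zpowers, D.cfg.zp] at h3
    · have hkW : k • W = W := (zpowers_le.2 (show z ∈ stabilizer G W from smul_fixed_of_commute (Commute.refl z)) hk :
        k ∈ stabilizer G W)
      have hkW' : k • W' = W' := (zpowers_le.2 (show z ∈ stabilizer G W' from smul_fixed_of_commute D.cfg.comm) hk :
        k ∈ stabilizer G W')
      refine ⟨hkW' ▸ Set.smul_mem_smul_set hx.1, fun hxW => hx.2 ?_⟩
      rw [← hkW] at hxW
      exact Set.smul_mem_smul_set_iff.1 hxW
  have hc3 : 3 ≤ c := hdiff.trans ((Set.ncard_le_ncard Set.sdiff_subset (Set.toFinite _)).trans D.cfg.cu.le)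
  rcases (show c = 3 ∨ c = 4 by have := D.le_four; omega) with hc | hc
  · -- `i` preserves the fixed set of an element outside `⟨z₀⟩`
    have hv := hconj u D.u_mem
    set v := i * u * i with hvdef
    have hii' : i * i = 1 := by rw [← pow_two, ← hi, pow_orderOf_eq_one]
    have hiv : i * v * i = u := by
      rw [hvdef, show i * (i * u * i) * i = (i * i) * u * (i * i) by group, hii', one_mul, mul_one]
    obtain ⟨e, he, he0, hie⟩ : ∃ e ∈ E, e ∉ zpowers z₀ ∧ (i * e * i = e ∨ i * e * i = e⁻¹) := by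
      by_cases h1 : u * v ∈ zpowers z₀
      · refine ⟨u * v⁻¹, mul_mem D.u_mem (inv_mem hv), fun h2 => D.u_notMem ?_, Or.inr ?_⟩
        · have h3 := mul_mem h1 h2
          rw [show u * v * (u * v⁻¹) = u * (v * u) * v⁻¹ by group, (D.comm_E hv D.u_mem).eq,
            show u * (u * v) * v⁻¹ = u ^ 2 by rw [pow_two]; group] at h3
          have := mul_mem h3 h3
          rwa [← pow_add, show 2 + 2 = 3 + 1 from rfl, pow_succ, D.u3, one_mul] at this
        · calc i * (u * v⁻¹) * i = (i * u * i) * (i⁻¹ * v * i)⁻¹ * (i⁻¹ * i) := by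
                rw [hvdef]; simp only [mul_inv_rev, inv_inv, mul_assoc, inv_mul_cancel, mul_one]
                simp [hii, ← mul_assoc]
                rw [mul_assoc (i * u), hii', mul_one]
            _ = v * u⁻¹ := by rw [inv_mul_cancel, mul_one, hii, hiv, ← hvdef]
            _ = (u * v⁻¹)⁻¹ := by rw [mul_inv_rev, inv_inv]
      · refine ⟨u * v, mul_mem D.u_mem hv, h1, Or.inl ?_⟩
        rw [show i * (u * v) * i = (i * u * i) * (i⁻¹ * v * i) by group, hii, hiv]
        exact (D.comm_E D.u_mem hv).eq.symm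
    have hfe : i • fixedBy Ω e = fixedBy Ω e := by
      rw [← fixed_conj, hii]
      rcases hie with h | h <;> rw [h]
      exact MulAction.fixedBy_inv ..
    obtain ⟨w, hw⟩ := exists_fixed_of_involution hi hfe (by rw [D.fixed_card he he0, hc]; decide)
    exact hpt w hw
  · -- the single common fixed point
    obtain ⟨w, hwW', hwz⟩ : ∃ w ∈ W', z • w = w := by
      haveI := Fintype.ofFinite W'
      have hQ : ∀ g ∈ zpowers z, g • W' = W' := fun g hg =>
        (zpowers_le.2 (show z ∈ stabilizer G W' from smul_fixed_of_commute D.cfg.comm) hg : g ∈ stabilizer G W')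
      obtain ⟨w, hw⟩ := Equiv.Perm.exists_fixed_point_of_prime (p := 3) (n := 1)
        (σ := permOn (zpowers z) W' hQ ⟨z, mem_zpowers z⟩)
        (by rw [← Nat.card_eq_fintype_card, Nat.card_coe_set_eq, D.cfg.cu, hc]; decide)
        (by rw [← map_pow]
            convert map_one (permOn (zpowers z) W' hQ)
            exact Subtype.ext (by rw [SubgroupClass.coe_pow, pow_one, ← D.cfg.zp, pow_orderOf_eq_one, coe_one]))
      exact ⟨w, w.2, congrArg Subtype.val hw⟩
    refine hpt w ?_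
    have hfixE : ∀ e ∈ E, e • w = w := fun e he => by
      replace he : e ∈ zpowers z ⊔ zpowers u := (D.cfg.card_cent D.isP D.le_four D.fix).2.ge he
      exact ((sup_le (zpowers_le.2 (show z ∈ stabilizer G w from hwz))
        (zpowers_le.2 (show u ∈ stabilizer G w from hwW'))) he : e ∈ stabilizer G w)
    have hfixi : ∀ e ∈ E, e • (i • w) = i • w := fun e he => by
      have h1 := hfixE _ (hconj e he)
      rw [mul_smul, mul_smul] at h1
      conv_rhs => rw [← h1]
      rw [← mul_smul i i, ← pow_two, ← hi, pow_orderOf_eq_one, one_smul]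
    have hone : ((W' \ (W' \ W)) : Set Ω).ncard ≤ 1 := by
      rw [Set.ncard_sdiff Set.sdiff_subset, D.cfg.cu]
      omega
    exact ((Set.ncard_le_one (Set.toFinite _)).1 hone) (i • w) ⟨hfixi u D.u_mem, fun h => h.2 (hfixi z D.z_mem)⟩
      w ⟨hwW', fun h => h.2 hwz⟩

/-- nothing inverts a nontrivial element of `E` inside the normaliser -/
theorem no_inverter {g e : G} (hg : g ∈ normalizer (cent P u : Set G)) (he : e ∈ cent P u) (he1 : e ≠ 1)
    (h : g * e * g⁻¹ = e⁻¹) : False := by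
  rcases Nat.even_or_odd (orderOf g) with hev | hod
  · obtain ⟨k, hk⟩ := hev
    refine D.no_involution (i := g ^ k) ?_ (pow_mem hg k)
    rw [orderOf_pow_of_dvd (by have := orderOf_pos g; omega) ⟨2, by omega⟩, hk]
    have := orderOf_pos g
    rw [show k + k = 2 * k by ring, Nat.mul_div_cancel _ (by omega)]
  · exact he1 (eq_one_of_inverted hod (D.exp he) h)

/-- the centraliser of `u` has 3-part nine -/
theorem card_le_of_centralizes {R : Subgroup G} (hR : IsPGroup 3 R) (hRu : ∀ r ∈ R, Commute r u) :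
    Nat.card R ≤ 9 := by
  set C := centralizer ({u} : Set G)
  set E := cent P u
  have hEC : E ≤ C := inf_le_right
  obtain ⟨T, hT⟩ := ((D.isP.to_le inf_le_left : IsPGroup 3 E).comap_subtype (K := C)).exists_le_sylow
  obtain ⟨T₁, hT₁⟩ := (hR.comap_subtype (K := C)).exists_le_sylow
  have hRC : R ≤ C := fun r hr => mem_centralizer_singleton_iff.2 (hRu r hr)
  have hcard : Nat.card R ≤ Nat.card T := by
    rw [Sylow.card_eq_multiplicity T, ← Sylow.card_eq_multiplicity T₁,
      ← Nat.card_congr (subgroupOfEquivOfLe hRC).toEquiv]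
    exact card_le_of_le hT₁
  refine hcard.trans ?_
  set T' := (T : Subgroup C).map C.subtype with hT'
  have hTc : Nat.card T = Nat.card T' := (card_map_of_injective C.subtype_injective).symm
  have hET : E ≤ T' := fun e he => ⟨⟨e, hEC he⟩, hT (show (⟨e, hEC he⟩ : C) ∈ E.subgroupOf C from he), rfl⟩
  have hT'p : IsPGroup 3 T' := T.2.map _
  by_contra hbig
  have hlt : E.subgroupOf T' < ⊤ := lt_top_iff_ne_top.2 fun e => by
    have := card_le_of_le (subgroupOf_eq_top.1 e)
    have : Nat.card E = 9 := D.card_E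
    omega
  haveI := hT'p.isNilpotent
  obtain ⟨⟨r, hrT⟩, hr, hrE⟩ := SetLike.exists_of_lt (Group.normalizerCondition_of_isNilpotent _ hlt)
  have hconj : ∀ e ∈ E, r * e * r⁻¹ ∈ E := fun e he => (mem_normalizer_iff.1 hr ⟨e, hET he⟩).1 he
  have hrN : r ∈ normalizer (E : Set G) := Cfsg.Lib.FixityFour.mem_normalizer_of_card_eq hconj
  have hru : Commute r u := mem_centralizer_singleton_iff.1 ((map_subtype_le _) hrT)
  have hzu : Commute u z₀ := D.z0c u D.cfg.uS
  have hrz : ¬ Commute r z₀ := by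
    intro hc
    have hall : ∀ e ∈ E, Commute r e := fun e he => by
      obtain ⟨i, j, -, -, rfl⟩ := D.dec he
      exact (hru.pow_right i).mul_right (hc.pow_right j)
    have hsup : E ⊔ zpowers r ≤ centralizer ({z} : Set G) := by
      refine sup_le (fun e he => mem_centralizer_singleton_iff.2 ?_)
        (zpowers_le.2 (mem_centralizer_singleton_iff.2 (hall z D.z_mem).eq))
      exact (D.cfg.central e (mem_cent.1 he).1 (mem_cent.1 he).2).eq
    have hsup' : E ⊔ zpowers r ≤ T' := sup_le hET (zpowers_le.2 hrT)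
    have h9 := card_le_nine D.le_four D.fix D.cfg.cz D.cfg.cu D.cfg.ne (hT'p.to_le hsup')
      (fun s hs => mem_centralizer_singleton_iff.1 (hsup hs))
      (fun s hs => mem_centralizer_singleton_iff.1 ((map_subtype_le _) (hsup' hs)))
    rw [← D.card_E] at h9
    exact hrE ((eq_of_le_of_card_ge le_sup_left h9).ge (mem_sup_right (mem_zpowers r)))
  obtain ⟨a, b, ha, hb, hab⟩ := D.dec (hconj z₀ D.z0_mem)
  have hrpow : ∀ t : ℕ, r * u ^ t * r⁻¹ = u ^ t := fun t => by rw [(hru.pow_right t).eq, mul_inv_cancel_right]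
  have hb1 : b = 1 := by
    rcases (show b = 0 ∨ b = 1 ∨ b = 2 by omega) with e | e | e <;> subst e
    · exfalso
      refine hrz ?_
      rw [pow_zero, mul_one] at hab
      have : z₀ = u ^ a := by
        calc z₀ = r⁻¹ * (r * z₀ * r⁻¹) * r := by group
          _ = u ^ a := by rw [hab, mul_assoc, ← (hru.pow_right a).eq, inv_mul_cancel_left]
      rw [this]
      exact hru.pow_right a
    · rfl
    · exfalso
      have h2 : r * r * z₀ * (r * r)⁻¹ = z₀ := by
        calc r * r * z₀ * (r * r)⁻¹ = r * (r * z₀ * r⁻¹) * r⁻¹ := by group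
          _ = (r * u ^ a * r⁻¹) * (r * z₀ * r⁻¹) ^ 2 := by rw [conj_pow, hab]; group
          _ = u ^ a * ((u ^ a) ^ 2 * (z₀ ^ 2) ^ 2) := by
            rw [hrpow, hab, ((hzu.pow_left a).pow_right 2).mul_pow]
          _ = z₀ := by
            rw [← mul_assoc, ← pow_mul, ← pow_mul, ← pow_add, show a + a * 2 = 3 * a by ring, pow_mul u, D.u3,
              one_pow, one_mul, show 2 * 2 = 3 + 1 from rfl, pow_succ, D.z3, one_mul]
      obtain ⟨k, hk⟩ := IsPGroup.iff_orderOf.1 hT'p ⟨r, hrT⟩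
      rw [Subgroup.orderOf_mk] at hk
      obtain ⟨m, hm⟩ : Odd (orderOf r) := by rw [hk]; exact (show Odd 3 by decide).pow
      refine hrz ?_
      have hc2 : Commute (r * r) z₀ := mul_inv_eq_iff_eq_mul.1 h2
      have : r = (r * r) ^ (m + 1) := by
        rw [← pow_two, ← pow_mul, show 2 * (m + 1) = orderOf r + 1 by omega, pow_succ, pow_orderOf_eq_one, one_mul]
      rw [this]
      exact hc2.pow_left _
  subst hb1
  rw [pow_one] at hab
  have ha0 : a ≠ 0 := fun e => hrz (by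
    rw [e, pow_zero, one_mul] at hab
    exact mul_inv_eq_iff_eq_mul.1 hab)
  have hpow : ∀ k : ℕ, r ^ k * z₀ * (r ^ k)⁻¹ = u ^ (a * k) * z₀ := by
    intro k
    induction k with
    | zero => simp
    | succ k ih =>
      calc r ^ (k + 1) * z₀ * (r ^ (k + 1))⁻¹ = r * (r ^ k * z₀ * (r ^ k)⁻¹) * r⁻¹ := by rw [pow_succ']; group
        _ = (r * u ^ (a * k) * r⁻¹) * (r * z₀ * r⁻¹) := by rw [ih]; group
        _ = u ^ (a * (k + 1)) * z₀ := by rw [hrpow, hab, ← mul_assoc, ← pow_add, mul_add, mul_one]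
  have hr1z : r ^ (2 * a) * z₀ * (r ^ (2 * a))⁻¹ = u ^ 2 * z₀ := by
    rw [hpow]
    rcases (show a = 1 ∨ a = 2 by omega) with e | e <;> subst e
    · rfl
    · rw [show 2 * (2 * 2) = 3 * 2 + 2 from rfl, pow_add, pow_mul, D.u3, one_pow, one_mul]
  have hr1u : r ^ (2 * a) * u * (r ^ (2 * a))⁻¹ = u := by rw [(hru.pow_left _).eq, mul_inv_cancel_right]
  set r₁ := r ^ (2 * a) with hr₁
  obtain ⟨n, hnP, hnN, hn⟩ := D.exists_shear
  have hnz : n * z₀ * n⁻¹ = z₀ := by rw [(D.z0c n hnP).eq, mul_inv_cancel_right]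
  set w := n * r₁ * n with hw
  have hwu : w * u * w⁻¹ = z₀ := by
    calc w * u * w⁻¹ = n * (r₁ * (n * u * n⁻¹) * r₁⁻¹) * n⁻¹ := by rw [hw]; group
      _ = n * ((r₁ * u * r₁⁻¹) * (r₁ * z₀ * r₁⁻¹)) * n⁻¹ := by rw [hn]; group
      _ = n * z₀ * n⁻¹ := by rw [hr1u, hr1z, ← mul_assoc u (u ^ 2), ← pow_succ', D.u3, one_mul]
      _ = z₀ := hnz
  have hwz : w * z₀ * w⁻¹ = u ^ 2 := by
    calc w * z₀ * w⁻¹ = n * (r₁ * (n * z₀ * n⁻¹) * r₁⁻¹) * n⁻¹ := by rw [hw]; group
      _ = n * (u ^ 2 * z₀) * n⁻¹ := by rw [hnz, hr1z]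
      _ = (n * u * n⁻¹) ^ 2 * (n * z₀ * n⁻¹) := by rw [conj_pow]; group
      _ = u ^ 2 * z₀ ^ 2 * z₀ := by rw [hn, hnz, hzu.mul_pow]
      _ = u ^ 2 := by rw [mul_assoc, ← pow_succ, D.z3, mul_one]
  have hwN : w ∈ normalizer (E : Set G) := mul_mem (mul_mem hnN (pow_mem hrN _)) hnN
  refine D.no_inverter (mul_mem hwN hwN) D.z0_mem (fun e => ?_) ?_
  · exact absurd (e ▸ D.z0o) (by rw [orderOf_one]; norm_num)
  · calc w * w * z₀ * (w * w)⁻¹ = w * (w * z₀ * w⁻¹) * w⁻¹ := by group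
      _ = (w * u * w⁻¹) ^ 2 := by rw [hwz, conj_pow]
      _ = z₀⁻¹ := by rw [hwu]; exact (inv_eq_of_mul_eq_one_left (by rw [← pow_succ, D.z3])).symm

/-- `u` is not inverted -/
theorem not_inverted : ¬ IsConj u u⁻¹ := by
  intro h
  obtain ⟨g, hg⟩ := isConj_iff.1 h
  set C := centralizer ({u} : Set G)
  set E := cent P u
  have hEC : E ≤ C := inf_le_right
  have hEp : IsPGroup 3 E := D.isP.to_le inf_le_left
  have hgC : ∀ e ∈ E, g * e * g⁻¹ ∈ C := fun e he => mem_centralizer_singleton_iff.2 (by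
    have h0 : Commute e u := mem_centralizer_singleton_iff.1 (hEC he)
    have h1 : Commute (g * e * g⁻¹) (g * u * g⁻¹) := h0.map (MulAut.conj g).toMonoidHom
    rw [hg] at h1
    exact (Commute.inv_right_iff.1 h1).eq)
  obtain ⟨T, hT⟩ := (hEp.comap_subtype (K := C)).exists_le_sylow
  set F := E.map (MulAut.conj g).toMonoidHom
  obtain ⟨T₁, hT₁⟩ := ((hEp.map _ : IsPGroup 3 F).comap_subtype (K := C)).exists_le_sylow
  obtain ⟨k, hk⟩ := MulAction.exists_smul_eq C T₁ T
  have hTE : (T : Subgroup C).map C.subtype = E := by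
    have hle : E ≤ (T : Subgroup C).map C.subtype :=
      fun e he => ⟨⟨e, hEC he⟩, hT (show (⟨e, hEC he⟩ : C) ∈ E.subgroupOf C from he), rfl⟩
    refine (eq_of_le_of_card_ge hle ?_).symm
    rw [D.card_E]
    exact D.card_le_of_centralizes (T.2.map _) fun r hr => mem_centralizer_singleton_iff.1 ((map_subtype_le _) hr)
  have hconj : ∀ e ∈ E, ((k : G) * g) * e * ((k : G) * g)⁻¹ ∈ E := fun e he => by
    rw [← hTE, ← hk]
    refine ⟨k * ⟨g * e * g⁻¹, hgC e he⟩ * k⁻¹, ⟨⟨g * e * g⁻¹, hgC e he⟩, hT₁ (show (⟨g * e * g⁻¹, hgC e he⟩ : C) ∈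
      F.subgroupOf C from mem_subgroupOf.2 (mem_map_of_mem (MulAut.conj g).toMonoidHom he)), rfl⟩, ?_⟩
    simp [mul_assoc]
  refine D.no_inverter (g := (k : G) * g) (Cfsg.Lib.FixityFour.mem_normalizer_of_card_eq hconj) D.u_mem
    (fun e => D.u_notMem (e ▸ one_mem _)) ?_
  calc (k : G) * g * u * ((k : G) * g)⁻¹ = (k : G) * (g * u * g⁻¹) * (k : G)⁻¹ := by group
    _ = u⁻¹ := by
      rw [hg, ((show Commute (k : G) u from mem_centralizer_singleton_iff.1 k.2).inv_right).eq, mul_inv_cancel_right]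

/-- the centraliser in `P` of a conjugate of `u` -/
theorem card_cent_conj {x : G} (hx : x ∈ P) (hux : IsConj u x) : Nat.card (cent P x) = 9 := by
  obtain ⟨g, hg⟩ := isConj_iff.1 hux
  have hle : Nat.card (cent P x) ≤ 9 := by
    rw [← card_map_of_injective (K := cent P x) (f := (MulAut.conj g⁻¹).toMonoidHom) (MulAut.conj g⁻¹).injective]
    refine D.card_le_of_centralizes ((D.isP.to_le inf_le_left : IsPGroup 3 (cent P x)).map _) ?_
    rintro _ ⟨r, hr, rfl⟩
    have hu' : u = MulAut.conj g⁻¹ x := by rw [← hg]; simp [mul_assoc]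
    rw [hu']
    exact (mem_cent.1 hr).2.map (MulAut.conj g⁻¹).toMonoidHom
  refine le_antisymm hle ?_
  have hxo : orderOf x = 3 := by rw [← hg, ← MulAut.conj_apply, MulEquiv.orderOf_eq, D.cfg.up]
  have hxz : zpowers x ⊔ zpowers z₀ ≤ cent P x :=
    sup_le (zpowers_le.2 (mem_cent.2 ⟨hx, Commute.refl x⟩))
      (zpowers_le.2 (mem_cent.2 ⟨D.z0P, (D.z0c x hx).symm⟩))
  obtain ⟨k, hk⟩ := IsPGroup.iff_card.1 ((D.isP.to_le inf_le_left : IsPGroup 3 (cent P x)).to_le hxz)
  by_contra hlt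
  have hk1 : k ≤ 1 := by
    by_contra hk'
    refine hlt (le_trans ?_ (card_le_of_le hxz))
    rw [hk]
    exact (show 9 = 3 ^ 2 by norm_num).le.trans (Nat.pow_le_pow_right (by norm_num) (by omega))
  have hzu : zpowers z₀ = zpowers x ⊔ zpowers z₀ := eq_of_le_of_card_ge le_sup_right (by
    rw [hk, Nat.card_zpowers, D.z0o]; exact (Nat.pow_le_pow_right (by norm_num) hk1).trans (pow_one 3).le)
  obtain ⟨j, hj⟩ := mem_zpowers_iff.1 (hzu.ge (mem_sup_left (mem_zpowers x)))
  have hcx : P ≤ cent P x := fun s hs => mem_cent.2 ⟨hs, hj ▸ (D.z0c s hs).zpow_right j⟩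
  have := card_le_of_le hcx
  have := D.big
  omega

/-- conjugates of `u` in `P` with the same image modulo the derived group are conjugate in `P` -/
theorem class_coset {x y : P} (hx : IsConj u (x : G)) (hy : Abelianization.of x = Abelianization.of y) :
    (∃ p : P, p * x * p⁻¹ = y) ∧ Nat.card (Abelianization P) = 9 ∧ ∀ a : Abelianization P, a ^ 3 = 1 := by
  classical
  set X := commutator P with hX
  haveI := D.isP.isNilpotent
  have hnc : ¬ IsCyclic (Abelianization P) := by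
    intro hcy
    haveI : IsCyclic (P ⧸ frattini P) := by
      have hle : X ≤ frattini P := Cfsg.Lib.PGroups.commutator_le_frattini D.isP
      haveI : IsCyclic (P ⧸ X) := hcy
      exact isCyclic_of_surjective (QuotientGroup.map X (frattini P) (MonoidHom.id P) (by simpa using hle))
        (fun q => by obtain ⟨p, rfl⟩ := QuotientGroup.mk'_surjective _ q; exact ⟨QuotientGroup.mk p, rfl⟩)
    haveI := Cfsg.Lib.PGroups.isCyclic_of_isCyclic_quotient_frattini (P := P)
    letI : CommGroup P := IsCyclic.commGroup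
    exact D.not_central fun s hs => congrArg Subtype.val (mul_comm (⟨s, hs⟩ : P) ⟨u, D.cfg.uS⟩)
  -- the size of the class
  set S₀ := (fun p : P => p * x * p⁻¹ * x⁻¹) '' Set.univ with hS₀
  have hsub : S₀ ⊆ (X : Set P) := by
    rintro _ ⟨p, -, rfl⟩
    exact Subgroup.commutator_mem_commutator (mem_top p) (mem_top x)
  have hst : Nat.card (stabilizer (ConjAct P) x) = 9 := by
    rw [← D.card_cent_conj x.2 hx]
    refine Nat.card_congr
      { toFun := fun q => ⟨((ConjAct.ofConjAct (q : ConjAct P) : P) : G), mem_cent.2 ⟨Subtype.mem _, ?_⟩⟩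
        invFun := fun r => ⟨ConjAct.toConjAct (⟨(r : G), (mem_cent.1 r.2).1⟩ : P), ?_⟩
        left_inv := fun q => Subtype.ext rfl
        right_inv := fun r => Subtype.ext rfl }
    · have h1 := q.2
      rw [mem_stabilizer_iff, ConjAct.smul_def] at h1
      exact congrArg Subtype.val (mul_inv_eq_iff_eq_mul.1 h1)
    · rw [mem_stabilizer_iff, ConjAct.smul_def, ConjAct.ofConjAct_toConjAct]
      exact mul_inv_eq_iff_eq_mul.2 (Subtype.ext (mem_cent.1 r.2).2.eq)
  have horb : S₀.ncard = (MulAction.orbit (ConjAct P) x).ncard := by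
    rw [show S₀ = (fun y => y * x⁻¹) '' MulAction.orbit (ConjAct P) x from ?_,
      Set.ncard_image_of_injective _ (mul_left_injective x⁻¹)]
    ext q
    constructor
    · rintro ⟨p, -, rfl⟩; exact ⟨_, ⟨ConjAct.toConjAct p, rfl⟩, by simp [ConjAct.smul_def]⟩
    · rintro ⟨_, ⟨p, rfl⟩, rfl⟩; exact ⟨ConjAct.ofConjAct p, trivial, by simp [ConjAct.smul_def]⟩
  have hcardX : Nat.card P = 9 * S₀.ncard := by
    rw [horb, ← MulAction.index_stabilizer, ← hst, card_mul_index]
    rfl
  have hle : S₀.ncard ≤ Nat.card X := by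
    show _ ≤ Nat.card ↥(X : Set P)
    rw [Nat.card_coe_set_eq]
    exact Set.ncard_le_ncard hsub (Set.toFinite _)
  have hmul : Nat.card X * Nat.card (Abelianization P) = Nat.card P := by
    have h := card_mul_index X
    rw [index_eq_card] at h
    exact h
  have hAp : IsPGroup 3 (Abelianization P) := D.isP.to_quotient X
  obtain ⟨k, hk⟩ := IsPGroup.iff_card.1 hAp
  have hk2 : 2 ≤ k := by
    by_contra hk'
    refine hnc ?_
    rcases (show k = 0 ∨ k = 1 by omega) with e | e <;> subst e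
    · haveI : Subsingleton (Abelianization P) := (Nat.card_eq_one_iff_unique.1 (by rw [hk, pow_zero])).1
      exact isCyclic_of_subsingleton
    · exact isCyclic_of_prime_card (p := 3) (by rw [hk, pow_one])
  have h9 : Nat.card (Abelianization P) = 9 ∧ S₀ = (X : Set P) := by
    have hge : 9 ≤ Nat.card (Abelianization P) := by
      rw [hk]; exact (show 9 = 3 ^ 2 by norm_num).le.trans (Nat.pow_le_pow_right (by norm_num) hk2)
    have h9' : Nat.card (Abelianization P) = 9 := by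
      refine le_antisymm ?_ hge
      by_contra h
      have hpos : 0 < Nat.card X := Nat.card_pos
      nlinarith [Nat.mul_le_mul_left 9 hle]
    refine ⟨h9', Set.eq_of_subset_of_ncard_le hsub ?_ (Set.toFinite _)⟩
    rw [h9', hcardX] at hmul
    rw [← Nat.card_coe_set_eq (X : Set P)]
    show Nat.card X ≤ _
    omega
  refine ⟨?_, h9.1, fun a => ?_⟩
  · have hm : y * x⁻¹ ∈ X := by
      show y * x⁻¹ ∈ commutator P
      rw [← QuotientGroup.eq_one_iff, QuotientGroup.mk_mul, QuotientGroup.mk_inv]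
      exact mul_inv_eq_one.2 hy.symm
    obtain ⟨p, -, hp⟩ := h9.2.ge hm
    exact ⟨p, mul_right_cancel hp⟩
  · by_contra ha
    refine hnc (isCyclic_of_orderOf_eq_card a ?_)
    obtain ⟨j, hj, hjo⟩ := (Nat.dvd_prime_pow Nat.prime_three).1 (show orderOf a ∣ 3 ^ 2 by
      rw [show (3 : ℕ) ^ 2 = 9 by norm_num, ← h9.1]; exact orderOf_dvd_natCard a)
    rcases (show j ≤ 1 ∨ j = 2 by omega) with e | e
    · exact absurd (orderOf_dvd_iff_pow_eq_one.1 (hjo ▸ (pow_dvd_pow 3 e).trans (by norm_num))) ha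
    · rw [hjo, e, h9.1]; norm_num

/-- **the transfer contradiction** -/
theorem absurd_perfect (hperf : commutator G = ⊤) (hsyl : ¬ 3 ∣ P.index) : False := by
  classical
  set φ : P →* Abelianization P := Abelianization.of
  have hux : ∀ v : P, IsConj u (v : G) → ∀ y : P, φ v = φ y → ∃ p : P, p * v * p⁻¹ = y :=
    fun v hv y hy => (D.class_coset hv hy).1
  have hu₀ : IsConj u ((⟨u, D.cfg.uS⟩ : P) : G) := IsConj.refl u
  obtain ⟨-, hA, hA3⟩ := D.class_coset (x := ⟨u, D.cfg.uS⟩) hu₀ rfl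
  set C := centralizer ({u} : Set G)
  have hC27 : ¬ 27 ∣ Nat.card C := by
    intro h
    obtain ⟨R, hR⟩ := Sylow.exists_subgroup_card_pow_prime 3 (G := C) (n := 3) (by simpa using h)
    have := D.card_le_of_centralizes (R := R.map C.subtype) ((IsPGroup.of_card hR).map _)
      fun r hr => mem_centralizer_singleton_iff.1 ((map_subtype_le _) hr)
    rw [card_map_of_injective C.subtype_injective, hR] at this
    norm_num at this
  have hC9 : 9 ∣ Nat.card C := D.card_E ▸ card_dvd_of_le (inf_le_right : cent P u ≤ C)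
  refine false_of_values P φ hperf hA hA3 D.cfg.up hsyl (n := Nat.card C / 9) ?_ ?_ ?_
  · intro h
    exact hC27 (by
      rw [← Nat.mul_div_cancel' hC9, show 27 = 9 * 3 by norm_num]
      exact Nat.mul_dvd_mul_left 9 h)
  · intro v w hv hw h
    obtain ⟨p, hp⟩ := hux v hv w⁻¹ (by rw [map_inv]; exact h)
    refine D.not_inverted (hv.trans ((isConj_iff.2 ⟨(p : G), congrArg Subtype.val hp⟩).trans ?_))
    obtain ⟨g, hg⟩ := isConj_iff.1 hw
    exact (isConj_iff.2 ⟨g, by rw [Subgroup.coe_inv, ← hg, conj_inv]⟩ : IsConj u⁻¹ ((w⁻¹ : P) : G)).symm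
  intro v hv
  obtain ⟨g, hg⟩ := isConj_iff.1 hv
  set g₀ := g⁻¹
  have hg₀ : g₀⁻¹ * u * g₀ = (v : G) := by rw [inv_inv]; exact hg
  set c₀ : G ⧸ P := (g₀ : G ⧸ P)
  have hval : ∀ h : G, ∀ hh : h⁻¹ * u * h ∈ P,
      u • (h : G ⧸ P) = h ∧ cosetVal P φ u (h : G ⧸ P) = φ ⟨_, hh⟩ := by
    intro h hh
    obtain ⟨p, hp⟩ := QuotientGroup.mk_out_eq_mul P h
    have hm : (h : G ⧸ P).out⁻¹ * u * (h : G ⧸ P).out ∈ P := by
      rw [hp, show (h * (p : G))⁻¹ * u * (h * p) = (p : G)⁻¹ * (h⁻¹ * u * h) * p by group]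
      exact mul_mem (mul_mem (inv_mem p.2) hh) p.2
    refine ⟨(fixed_iff P).2 hm, ?_⟩
    rw [cosetVal, dif_pos hm, show (⟨_, hm⟩ : P) = p⁻¹ * ⟨_, hh⟩ * p from Subtype.ext (by
      show (h : G ⧸ P).out⁻¹ * u * (h : G ⧸ P).out = (p : G)⁻¹ * (h⁻¹ * u * h) * p
      rw [hp]; group), map_mul, map_mul, map_inv, mul_comm, mul_inv_cancel_left]
  have hset : {d : G ⧸ P | u • d = d ∧ cosetVal P φ u d = φ v} = MulAction.orbit C c₀ := by
    ext d
    obtain ⟨h, rfl⟩ := QuotientGroup.mk_surjective d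
    constructor
    · rintro ⟨hfix, hv'⟩
      have hh : h⁻¹ * u * h ∈ P := by
        rw [MulAction.Quotient.smul_mk, eq_comm, QuotientGroup.eq, smul_eq_mul, ← mul_assoc] at hfix
        exact hfix
      rw [(hval h hh).2] at hv'
      obtain ⟨p, hp⟩ := hux v hv ⟨_, hh⟩ hv'.symm
      have hp' : (p : G) * (v : G) * (p : G)⁻¹ = h⁻¹ * u * h := congrArg Subtype.val hp
      rw [← hg₀] at hp'
      refine ⟨⟨h * p * g₀⁻¹, mem_centralizer_singleton_iff.2 ?_⟩, ?_⟩
      · calc h * p * g₀⁻¹ * u = h * ((p : G) * (g₀⁻¹ * u * g₀) * (p : G)⁻¹) * p * g₀⁻¹ := by group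
          _ = u * (h * p * g₀⁻¹) := by rw [hp']; group
      · show ((h * p * g₀⁻¹ * g₀ : G) : G ⧸ P) = h
        rw [inv_mul_cancel_right, QuotientGroup.mk_mul_of_mem h p.2]
    · rintro ⟨⟨k, hk⟩, hkd⟩
      have hkd' : ((k * g₀ : G) : G ⧸ P) = h := hkd
      have hk' : (k * g₀)⁻¹ * u * (k * g₀) = v := by
        rw [← hg₀, mul_inv_rev, mul_assoc _ u, ← mul_assoc u k, ← mem_centralizer_singleton_iff.1 hk]
        group
      show u • (h : G ⧸ P) = h ∧ cosetVal P φ u (h : G ⧸ P) = φ v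
      rw [← hkd']
      have := hval (k * g₀) (by rw [hk']; exact v.2)
      exact ⟨this.1, this.2.trans (congrArg φ (Subtype.ext hk'))⟩
  have hstc : Nat.card (stabilizer C c₀) = 9 := by
    rw [← D.card_cent_conj v.2 hv]
    have hconj : ∀ k : C, k ∈ stabilizer C c₀ ↔ g₀⁻¹ * (k : G) * g₀ ∈ P := fun k => by
      rw [mem_stabilizer_iff]
      show ((k * g₀ : G) : G ⧸ P) = g₀ ↔ _
      rw [eq_comm, QuotientGroup.eq, ← mul_assoc]
    refine Nat.card_congr
      { toFun := fun k => ⟨g₀⁻¹ * ((k : C) : G) * g₀, mem_cent.2 ⟨(hconj _).1 k.2, ?_⟩⟩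
        invFun := fun r => ⟨⟨g₀ * (r : G) * g₀⁻¹, mem_centralizer_singleton_iff.2 ?_⟩, (hconj _).2 ?_⟩
        left_inv := fun k => Subtype.ext (Subtype.ext (by simp [mul_assoc]))
        right_inv := fun r => Subtype.ext (by simp [mul_assoc]) }
    · have hk : Commute ((k : C) : G) u := mem_centralizer_singleton_iff.1 (k : C).2
      rw [← hg₀]
      simpa using hk.map (MulAut.conj g₀⁻¹).toMonoidHom
    · have hr : Commute (r : G) (g₀⁻¹ * u * g₀) := hg₀.symm ▸ (mem_cent.1 r.2).2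
      calc g₀ * (r : G) * g₀⁻¹ * u = g₀ * ((r : G) * (g₀⁻¹ * u * g₀)) * g₀⁻¹ := by group
        _ = u * (g₀ * (r : G) * g₀⁻¹) := by rw [hr.eq]; group
    · show g₀⁻¹ * (g₀ * (r : G) * g₀⁻¹) * g₀ ∈ P
      rw [show g₀⁻¹ * (g₀ * (r : G) * g₀⁻¹) * g₀ = r by group]
      exact (mem_cent.1 r.2).1
  rw [hset, ← MulAction.index_stabilizer]
  have := (stabilizer C c₀).card_mul_index
  rw [hstc] at this
  omega

end ThreeData

end Cfsg.Lib.FixityFour
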