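import Cfsg.Agent.FixityFour.ThreeCentral
import Cfsg.Agent.FixityFour.ThreeConfig

/-!
The part of the fixity-four theorem for the prime three.
-/

set_option autoImplicit false
set_option linter.unusedSectionVars false
set_option linter.style.haveILetI false

namespace Cfsg.Lib.FixityFour

open MulAction Subgroup

/-- Odd point stabilisers of order divisible by three: a strongly `3`-embedded subgroup, or `P` is elementary
abelian of order nine. -/
theorem three_case {G Ω : Type*} [Group G] [Finite G] [IsSimpleGroup G] (hna : ¬ IsMulCommutative G)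
    [MulAction G Ω] [FaithfulSMul G Ω] [Finite Ω] (htrans : MulAction.IsPretransitive G Ω)
    (hfix : ∀ g : G, g ≠ 1 → Nat.card (MulAction.fixedBy Ω g) ≤ 4) (a : Ω)
    (hodd : Odd (Nat.card (MulAction.stabilizer G a))) (h3 : 3 ∣ Nat.card (MulAction.stabilizer G a))
    (P : Sylow 3 G) :
    (∃ H : Subgroup G, H ≠ ⊤ ∧ 3 ∣ Nat.card H ∧
        ∀ g : G, g ∉ H → ¬ 3 ∣ Nat.card ↥(H ⊓ H.map (MulAut.conj g).toMonoidHom)) ∨
      (Nat.card P = 9 ∧ ∀ x ∈ (P : Subgroup G), x ^ 3 = 1) := by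
  haveI : Fact (Nat.Prime 3) := ⟨Nat.prime_three⟩
  have hstab : ∀ w : Ω, Odd (Nat.card (stabilizer G w)) := by
    intro w
    obtain ⟨g, rfl⟩ := htrans.exists_smul_eq a w
    rwa [MulAction.stabilizer_smul_eq_stabilizer_map_conj, card_map_of_injective (MulAut.conj g).injective]
  obtain ⟨⟨g, hga⟩, hg⟩ := exists_prime_orderOf_dvd_card' 3 h3
  rw [orderOf_mk] at hg
  haveI : Nonempty {x : G // orderOf x = 3} := ⟨⟨g, hg⟩⟩
  obtain ⟨⟨x, hx⟩, hmax⟩ := Finite.exists_max fun x : {x : G // orderOf x = 3} => (fixedBy Ω (x : G)).ncard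
  set c := (fixedBy Ω x).ncard with hc
  have hc1 : 1 ≤ c :=
    le_trans ((Set.ncard_pos (s := fixedBy Ω g) (Set.toFinite _)).2 ⟨a, hga⟩) (hmax ⟨g, hg⟩)
  have hc4 : c ≤ 4 := by
    rw [hc, ← Nat.card_coe_set_eq]
    exact hfix x fun e => by rw [e, orderOf_one] at hx; omega
  have hle : FixLE G Ω 3 c := fixLE_of_prime fun y hy => hmax ⟨y, hy⟩
  rcases central_or_config hle P hx rfl with ⟨z, hzP, hz, hzc, hcen, hall⟩ | ⟨z, u, hcfg⟩
  · exact Or.inl (three_central hna htrans hstab hc1 hc4 hle P hzP hz hzc hcen hall)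
  · refine Or.inr ?_
    obtain ⟨h9, -⟩ := hcfg.card_cent P.2 hc4 hle
    by_cases hbig : 9 < Nat.card P
    · exfalso
      obtain ⟨z₀, hz0, hz0o, hz0c⟩ := exists_central (p := 3) P.2 le_rfl
        (fun s hs k hk => mul_mem (mul_mem hs hk) (inv_mem hs))
        (fun e => by rw [e, card_bot] at hbig; omega)
      exact ThreeData.absurd_perfect
        (⟨hstab, hc4, hle, hcfg, P.2, hz0, hz0o, hz0c, hbig⟩ : ThreeData G Ω (P : Subgroup G) c z u z₀)
        (commutator_eq_top_of_simple hna) P.not_dvd_index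
    · have hPeq : cent (P : Subgroup G) u = P := eq_of_le_of_card_ge inf_le_left (by omega)
      exact ⟨by rw [hPeq] at h9; exact h9, fun y hy => hcfg.exp_three P.2 hc4 hle (hPeq.ge hy)⟩

end Cfsg.Lib.FixityFour
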