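import Cfsg.Agent.FixityFour.Basic
import Mathlib.GroupTheory.Focal
import Mathlib.GroupTheory.Transfer

/-!
Small lemmas for the prime three: permutations of at most four points, products in a group of order nine, and
the transfer of an element of order three whose conjugates in a Sylow subgroup give no inverse pair.
-/

set_option autoImplicit false
set_option linter.unusedSectionVars false
set_option linter.style.haveILetI false

namespace Cfsg.Lib.FixityFour

open MulAction

theorem commutator_eq_top_of_simple {G : Type*} [Group G] [IsSimpleGroup G] (hna : ¬ IsMulCommutative G) :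
    commutator G = ⊤ := by
  refine (IsSimpleGroup.eq_bot_or_eq_top_of_normal (commutator G) inferInstance).resolve_left fun e => hna ?_
  exact ⟨⟨fun a b => commutatorElement_eq_one_iff_mul_comm.1 (Subgroup.mem_bot.1
    (e ▸ Subgroup.commutator_mem_commutator (Subgroup.mem_top a) (Subgroup.mem_top b)))⟩⟩

/-- An element of odd order does not invert an element of order three. -/
theorem eq_one_of_inverted {X : Type*} [Group X] {g x : X} (hg : Odd (orderOf g)) (hx : x ^ 3 = 1)
    (h : g * x * g⁻¹ = x⁻¹) : x = 1 := by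
  have hn : ∀ k : ℕ, g ^ (2 * k + 1) * x * (g ^ (2 * k + 1))⁻¹ = x⁻¹ := by
    intro k
    induction k with
    | zero => simpa using h
    | succ k ih =>
      have h2 : g * x⁻¹ * g⁻¹ = x := by rw [← conj_inv, h, inv_inv]
      calc g ^ (2 * (k + 1) + 1) * x * (g ^ (2 * (k + 1) + 1))⁻¹
          = g * (g * (g ^ (2 * k + 1) * x * (g ^ (2 * k + 1))⁻¹) * g⁻¹) * g⁻¹ := by
            rw [show 2 * (k + 1) + 1 = (2 * k + 1) + 1 + 1 by ring, pow_succ' g ((2 * k + 1) + 1),
              pow_succ' g (2 * k + 1)]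
            group
        _ = x⁻¹ := by rw [ih, h2, h]
  obtain ⟨k, hk⟩ := hg
  have h1 := hn k
  rw [← hk, pow_orderOf_eq_one, one_mul, inv_one, mul_one] at h1
  calc x = x * (x * x * x)⁻¹ := by rw [show x * x * x = x ^ 3 by simp [pow_succ], hx, inv_one, mul_one]
    _ = x⁻¹ * x⁻¹ := by group
    _ = x⁻¹ * x := by rw [← h1]
    _ = 1 := inv_mul_cancel x

theorem perm_inverted_fin : ∀ n : Fin 5, ∀ σ τ : Equiv.Perm (Fin (n : ℕ)), σ * σ * σ = 1 → σ ≠ 1 →
    τ * σ = σ⁻¹ * τ → ∃ i : Fin 3, ∃ w, (σ ^ (i : ℕ) * τ) w = w := by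
  decide

/-- A permutation inverting an element of order three on at most four points fixes a point up to its powers. -/
theorem perm_inverted {α : Type*} [Finite α] (h4 : Nat.card α ≤ 4) {σ τ : Equiv.Perm α} (hσ : σ ^ 3 = 1)
    (h1 : σ ≠ 1) (h : τ * σ = σ⁻¹ * τ) : ∃ i : ℕ, ∃ w : α, (σ ^ i * τ) w = w := by
  set e := (Finite.equivFin α).permCongrHom
  obtain ⟨i, w, hw⟩ := perm_inverted_fin ⟨Nat.card α, by omega⟩ (e σ) (e τ)
    (by rw [← map_mul, ← map_mul, show σ * σ * σ = σ ^ 3 by simp [pow_succ], hσ, map_one])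
    (fun hh => h1 (e.map_eq_one_iff.1 hh))
    (by rw [← map_inv, ← map_mul, ← map_mul, h])
  refine ⟨i, (Finite.equivFin α).symm w, (Finite.equivFin α).injective ?_⟩
  rw [← map_pow, ← map_mul] at hw
  exact hw.trans ((Finite.equivFin α).apply_symm_apply w).symm

section

variable {G Ω : Type*} [Group G] [MulAction G Ω] [Finite G] [Finite Ω]

/-- A `3`-group of permutations of at most four points has order at most three. -/
theorem card_range_le_three {R : Type*} [Group R] [Finite R] (hR : IsPGroup 3 R) {α : Type*} [Finite α]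
    (h4 : Nat.card α ≤ 4) (f : R →* Equiv.Perm α) : Nat.card f.range ≤ 3 := by
  haveI : Fact (Nat.Prime 3) := ⟨Nat.prime_three⟩
  obtain ⟨k, hk⟩ := IsPGroup.iff_card.1 (hR.of_surjective f.rangeRestrict f.rangeRestrict_surjective)
  have hd := f.range.card_subgroup_dvd_card
  rw [Nat.card_perm, hk] at hd
  have h24 : (Nat.card α).factorial ∣ 24 := Nat.factorial_dvd_factorial h4
  have hd24 := hd.trans h24
  rw [hk]
  rcases k with _ | _ | k
  · norm_num
  · norm_num
  · exact absurd ((Dvd.intro (3 ^ k) (by ring : 9 * 3 ^ k = 3 ^ (k + 2))).trans hd24) (by norm_num)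

/-- Two elements of a group of order at most three. -/
theorem eq_or_eq_inv {X : Type*} [Group X] {C : Subgroup X} [Finite C] (hC : Nat.card C ≤ 3) {a b : X}
    (ha : a ∈ C) (hb : b ∈ C) (ha1 : a ≠ 1) (hb1 : b ≠ 1) (ha3 : a ^ 3 = 1) : b = a ∨ b = a⁻¹ := by
  have h3 : orderOf a = 3 :=
    haveI : Fact (Nat.Prime 3) := ⟨Nat.prime_three⟩
    orderOf_eq_prime ha3 ha1
  have he : Subgroup.zpowers a = C := Subgroup.eq_of_le_of_card_ge (Subgroup.zpowers_le.2 ha)
    (by rw [Nat.card_zpowers, h3]; exact hC)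
  obtain ⟨k, rfl⟩ := Subgroup.mem_zpowers_iff.1 (he ▸ hb)
  rw [← zpow_mod_orderOf, h3] at hb1 ⊢
  rcases (show k % (3 : ℕ) = 0 ∨ k % (3 : ℕ) = 1 ∨ k % (3 : ℕ) = 2 by omega) with e | e | e <;> rw [e] at hb1 ⊢
  · exact absurd (zpow_zero a) hb1
  · exact Or.inl (zpow_one a)
  · exact Or.inr (eq_inv_of_mul_eq_one_left (by rw [← zpow_add_one]; exact_mod_cast ha3))

end

section Transfer

theorem sum_ne_zero_aux : ∀ s : Finset (ZMod 3 × ZMod 3), s.card % 3 ≠ 0 → (∀ v ∈ s, -v ∉ s) →
    s.sum id ≠ 0 := by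
  decide +kernel

/-- A set of the size prime to three without inverse pairs has product different from `1`. -/
theorem prod_ne_one {A : Type*} [CommGroup A] [Finite A] (hA : Nat.card A = 9) (h3 : ∀ a : A, a ^ 3 = 1)
    (s : Finset A) (hs : ¬ 3 ∣ s.card) (hinv : ∀ v ∈ s, v⁻¹ ∉ s) : ∏ v ∈ s, v ≠ 1 := by
  classical
  haveI : Fact (Nat.Prime 3) := ⟨Nat.prime_three⟩
  letI : Module (ZMod 3) (Additive A) := AddCommGroup.zmodModule fun a =>
    Additive.toMul.injective (h3 a.toMul)
  haveI : Finite (Additive A) := Finite.of_equiv A Additive.ofMul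
  have hr : Module.finrank (ZMod 3) (Additive A) = 2 := by
    have h := Module.natCard_eq_pow_finrank (K := ZMod 3) (V := Additive A)
    rw [show Nat.card (Additive A) = 9 from hA, Nat.card_zmod] at h
    exact (Nat.pow_right_injective (le_refl 2 |>.trans (by norm_num)) (h.symm.trans (by norm_num : (9:ℕ) = 3 ^ 2)))
  let b := Module.finBasisOfFinrankEq (ZMod 3) (Additive A) hr
  let e : Additive A ≃+ ZMod 3 × ZMod 3 :=
    (b.equivFun.trans (LinearEquiv.finTwoArrow (ZMod 3) (ZMod 3))).toAddEquiv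
  set g : A → ZMod 3 × ZMod 3 := fun a => e (Additive.ofMul a)
  have hg : Function.Injective g := e.injective.comp Additive.ofMul.injective
  intro hp
  refine sum_ne_zero_aux (s.image g) ?_ ?_ ?_
  · rw [Finset.card_image_of_injective _ hg]
    exact fun h => hs (Nat.dvd_of_mod_eq_zero h)
  · intro v hv hnv
    simp only [Finset.mem_image] at hv hnv
    obtain ⟨x, hx, rfl⟩ := hv
    obtain ⟨y, hy, hy'⟩ := hnv
    refine hinv x hx ?_
    have hxy : g x⁻¹ = g y := hy' ▸ (map_neg e (Additive.ofMul x))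
    rwa [hg hxy]
  · rw [Finset.sum_image fun x _ y _ h => hg h]
    show ∑ x ∈ s, e (Additive.ofMul x) = 0
    rw [← map_sum, ← ofMul_prod, hp, ofMul_one, map_zero]

variable {G : Type*} [Group G] (H : Subgroup G) {A : Type*} [CommGroup A] (φ : H →* A)

open Classical in
/-- The value of the transfer summand at a coset. -/
noncomputable def cosetVal (u : G) (c : G ⧸ H) : A :=
  if h : c.out⁻¹ * u * c.out ∈ H then φ ⟨_, h⟩ else 1

theorem fixed_iff {u : G} {c : G ⧸ H} : u • c = c ↔ c.out⁻¹ * u * c.out ∈ H := by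
  conv_lhs => rw [← QuotientGroup.out_eq' c]
  rw [MulAction.Quotient.smul_mk, eq_comm, QuotientGroup.eq, smul_eq_mul, mul_assoc]

variable [Finite G]

open Classical in
/-- An element of order three transfers to the product of the values at its fixed cosets. -/
theorem transfer_order_three [Fintype (G ⧸ H)] {u : G} (hu : orderOf u = 3) :
    MonoidHom.transfer φ u = ∏ c ∈ Finset.univ.filter (fun c : G ⧸ H => u • c = c), cosetVal H φ u c := by
  haveI : Fact (Nat.Prime 3) := ⟨Nat.prime_three⟩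
  haveI : Fintype (Quotient (orbitRel (Subgroup.zpowers u) (G ⧸ H))) := Fintype.ofFinite _
  rw [MonoidHom.transfer_eq_prod_quotient_orbitRel_zpowers_quot]
  rw [← Finset.prod_filter_mul_prod_filter_not Finset.univ
    (fun q : Quotient (orbitRel (Subgroup.zpowers u) (G ⧸ H)) => u • q.out = q.out)]
  refine (congrArg₂ (· * ·) ?_ ?_).trans (mul_one _)
  · refine Finset.prod_bij (fun q _ => q.out) (fun q hq => by simpa using hq)
      (fun q _ q' _ e => by rw [← q.out_eq, ← q'.out_eq, e]) (fun c hc => ?_) (fun q hq => ?_)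
    · have hc' : u • c = c := (Finset.mem_filter.1 hc).2
      have key : (Quotient.mk (orbitRel (Subgroup.zpowers u) (G ⧸ H)) c).out = c := by
        obtain ⟨⟨_, n, rfl⟩, hn⟩ := orbitRel_apply.1 (Quotient.mk_out (s := orbitRel (Subgroup.zpowers u) (G ⧸ H)) c)
        rw [← hn]
        show u ^ n • c = c
        exact zpow_smul_eq_iff_minimalPeriod_dvd.2
          ((Int.natCast_dvd.2 ((Function.IsPeriodicPt.minimalPeriod_dvd
            (show Function.IsPeriodicPt (u • ·) 1 c from hc')).trans (one_dvd _))))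
      exact ⟨Quotient.mk _ c, Finset.mem_filter.2 ⟨Finset.mem_univ _, by rw [key]; exact hc'⟩, key⟩
    · have hq' : u • q.out = q.out := (Finset.mem_filter.1 hq).2
      have h1 : Function.minimalPeriod (u • ·) q.out = 1 := Function.minimalPeriod_eq_one_iff_isFixedPt.2 hq'
      rw [cosetVal, dif_pos ((fixed_iff H).1 hq')]
      congr 2
      rw [h1, pow_one]
  · refine Finset.prod_eq_one fun q hq => ?_
    have hq' : ¬ u • q.out = q.out := (Finset.mem_filter.1 hq).2
    have h1 : Function.minimalPeriod (u • ·) q.out = 3 :=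
      Function.minimalPeriod_eq_prime (p := 3) (show Function.IsPeriodicPt (u • ·) 3 q.out by
        show (u • ·)^[3] q.out = q.out
        rw [smul_iterate, ← hu]
        show u ^ orderOf u • q.out = q.out
        rw [pow_orderOf_eq_one, one_smul]) hq'
    convert map_one φ
    show q.out.out⁻¹ * u ^ _ * q.out.out = 1
    rw [h1, ← hu, pow_orderOf_eq_one, mul_one, inv_mul_cancel]

/-- **The transfer contradiction.** -/
theorem false_of_values (hperf : commutator G = ⊤) (hA : Nat.card A = 9) [Finite A] (h3 : ∀ a : A, a ^ 3 = 1)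
    {u : G} (hu : orderOf u = 3) (hidx : ¬ 3 ∣ H.index) {n : ℕ} (hn : ¬ 3 ∣ n)
    (hinv : ∀ v w : H, IsConj u v → IsConj u w → φ v ≠ (φ w)⁻¹)
    (hcount : ∀ v : H, IsConj u v → {c : G ⧸ H | u • c = c ∧ cosetVal H φ u c = φ v}.ncard = n) : False := by
  classical
  haveI : Fact (Nat.Prime 3) := ⟨Nat.prime_three⟩
  haveI : Fintype (G ⧸ H) := Fintype.ofFinite _
  set F := Finset.univ.filter (fun c : G ⧸ H => u • c = c) with hF
  set s := F.image (cosetVal H φ u) with hs
  have hval : ∀ c ∈ F, ∃ v : H, IsConj u v ∧ cosetVal H φ u c = φ v := fun c hc => by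
    have h := (fixed_iff H).1 (Finset.mem_filter.1 hc).2
    exact ⟨⟨_, h⟩, isConj_iff.2 ⟨c.out⁻¹, by rw [inv_inv]⟩, by rw [cosetVal, dif_pos h]⟩
  have hfib : ∀ v ∈ s, (F.filter fun c => cosetVal H φ u c = v).card = n := by
    intro v hv
    obtain ⟨c, hc, rfl⟩ := Finset.mem_image.1 hv
    obtain ⟨w, hw, hcw⟩ := hval c hc
    rw [← hcount w hw, hcw, ← Set.ncard_coe_finset]
    congr 1
    ext d
    simp [hF]
  have hcard : F.card = n * s.card := by
    rw [Finset.card_eq_sum_card_image (cosetVal H φ u) F, Finset.sum_congr rfl hfib, Finset.sum_const, smul_eq_mul,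
      mul_comm, hs]
  have hFmod : H.index ≡ F.card [MOD 3] := by
    have hp : IsPGroup 3 (Subgroup.zpowers u) := IsPGroup.of_card (n := 1) (by rw [Nat.card_zpowers, hu, pow_one])
    have h := hp.card_modEq_card_fixedPoints (G ⧸ H)
    rw [← Subgroup.index_eq_card] at h
    rw [Nat.card_coe_set_eq, show fixedPoints (Subgroup.zpowers u) (G ⧸ H) = (F : Set (G ⧸ H)) from
      Set.ext fun c => ?_, Set.ncard_coe_finset] at h
    · exact h
    simp only [hF, Finset.coe_filter, Finset.mem_univ, true_and, Set.mem_ofPred_eq, mem_fixedPoints]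
    refine ⟨fun h => h ⟨u, Subgroup.mem_zpowers u⟩, fun h => ?_⟩
    rintro ⟨_, k, rfl⟩
    exact (Subgroup.zpow_mem (stabilizer G c) h k : u ^ k ∈ stabilizer G c)
  refine prod_ne_one hA h3 s ?_ ?_ ?_
  · intro hd
    have h0 : F.card ≡ 0 [MOD 3] := Nat.modEq_zero_iff_dvd.2 (hcard ▸ dvd_mul_of_dvd_right hd n)
    exact hidx (Nat.modEq_zero_iff_dvd.1 (hFmod.trans h0))
  · intro v hv hv'
    obtain ⟨c, hc, rfl⟩ := Finset.mem_image.1 hv
    obtain ⟨d, hd, hd'⟩ := Finset.mem_image.1 hv'
    obtain ⟨v₁, h1, e1⟩ := hval c hc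
    obtain ⟨v₂, h2, e2⟩ := hval d hd
    exact hinv v₂ v₁ h2 h1 (by rw [← e2, hd', e1])
  · have htop : MonoidHom.transfer φ u = 1 := MonoidHom.mem_ker.1
      (Abelianization.commutator_subset_ker (MonoidHom.transfer φ) (hperf ▸ Subgroup.mem_top u))
    rw [transfer_order_three H φ hu, ← hF, ← Finset.prod_fiberwise_of_maps_to (g := cosetVal H φ u) (t := s)
      (fun c hc => Finset.mem_image_of_mem _ hc)] at htop
    rw [Finset.prod_congr rfl (g := fun v => v ^ n) fun v hv => by
      rw [Finset.prod_congr rfl (g := fun _ => v) fun c hc => (Finset.mem_filter.1 hc).2, Finset.prod_const,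
        hfib v hv], Finset.prod_pow] at htop
    exact orderOf_eq_one_iff.1 (Nat.eq_one_of_dvd_coprimes
      ((Nat.prime_three.coprime_iff_not_dvd).2 hn) (orderOf_dvd_of_pow_eq_one (h3 _))
      (orderOf_dvd_of_pow_eq_one htop))

end Transfer

end Cfsg.Lib.FixityFour
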