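import Cfsg.Agent.FixityFour.ThreeBasic

/-!
The prime three, central case: the stabiliser of the fixed point set of a central element of order three is
strongly `3`-embedded.
-/

set_option autoImplicit false
set_option linter.unusedSectionVars false
set_option linter.style.haveILetI false

namespace Cfsg.Lib.FixityFour

open MulAction Subgroup
open scoped Pointwise commutatorElement

variable {G Ω : Type*} [Group G] [Finite G] [MulAction G Ω] [Finite Ω] [Fact (Nat.Prime 3)]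

/-- The strongly `3`-embedded conclusion. -/
def ThreeEmbedded (G : Type*) [Group G] : Prop :=
  ∃ H : Subgroup G, H ≠ ⊤ ∧ 3 ∣ Nat.card H ∧
    ∀ g : G, g ∉ H → ¬ 3 ∣ Nat.card ↥(H ⊓ H.map (MulAut.conj g).toMonoidHom)

variable [IsSimpleGroup G] [FaithfulSMul G Ω]

theorem three_central (hna : ¬ IsMulCommutative G) (htrans : MulAction.IsPretransitive G Ω)
    (hstab : ∀ w : Ω, Odd (Nat.card (stabilizer G w))) {c : ℕ} (hc1 : 1 ≤ c) (hc4 : c ≤ 4)
    (hle : FixLE G Ω 3 c) (P : Sylow 3 G) {z : G} (hzP : z ∈ (P : Subgroup G)) (hz : orderOf z = 3)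
    (hzc : (fixedBy Ω z).ncard = c) (hcen : ∀ s ∈ (P : Subgroup G), Commute s z)
    (hall : ∀ g : G, g * z * g⁻¹ ∈ (P : Subgroup G) → ∀ a ∈ fixedBy Ω z, (g * z * g⁻¹) • a = a) :
    ThreeEmbedded G := by
  classical
  set W := fixedBy Ω z with hW
  set H := stabilizer G W with hH
  have hz1 : z ≠ 1 := fun e => by rw [e, orderOf_one] at hz; omega
  have hPH : (P : Subgroup G) ≤ H := fun s hs => smul_fixed_of_commute (hcen s hs)
  let π : H →* Equiv.Perm W := permOn H W fun g hg => hg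
  have hW4 : Nat.card W ≤ 4 := by rw [Nat.card_coe_set_eq, hzc]; exact hc4
  -- conjugates of `z` in a Sylow subgroup
  have hconjfix : ∀ (g h : G), h⁻¹ * (g * z * g⁻¹) * h ∈ (P : Subgroup G) → g • W = h • W := by
    intro g h hm
    rw [show h⁻¹ * (g * z * g⁻¹) * h = (h⁻¹ * g) * z * (h⁻¹ * g)⁻¹ by group] at hm
    have h1 := hle.fixed_eq P.2 hm (fun e => hz1 (conj_eq_one_iff.1 e)) hzc (hall _ hm)
    rw [fixed_conj, mul_smul, ← hW] at h1
    rwa [← eq_inv_smul_iff, inv_inv] at h1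
  -- fusion in `P` is controlled on `W`
  have hfus : ∀ (x y : G) (hx : x ∈ (P : Subgroup G)) (hy : y ∈ (P : Subgroup G)) (g : G),
      g * x * g⁻¹ = y → π ⟨x, hPH hx⟩ = π ⟨y, hPH hy⟩ := by
    intro x y hx hy g hg
    set C := centralizer ({y} : Set G)
    have hzC : z ∈ C := mem_centralizer_singleton_iff.2 (hcen y hy).symm.eq
    have hgzC : g * z * g⁻¹ ∈ C := mem_centralizer_singleton_iff.2 (by
      rw [← hg]
      calc g * z * g⁻¹ * (g * x * g⁻¹) = g * (z * x) * g⁻¹ := by group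
        _ = g * (x * z) * g⁻¹ := by rw [(hcen x hx).eq]
        _ = g * x * g⁻¹ * (g * z * g⁻¹) := by group)
    have h3 : ∀ w : G, orderOf w = 3 → IsPGroup 3 (zpowers w) := fun w hw =>
      IsPGroup.of_card (n := 1) (by rw [Nat.card_zpowers, hw, pow_one])
    have hgz : orderOf (g * z * g⁻¹) = 3 := by rw [← MulAut.conj_apply, MulEquiv.orderOf_eq, hz]
    obtain ⟨D, hD⟩ := ((h3 z hz).comap_subtype (K := C)).exists_le_sylow
    obtain ⟨D', hD'⟩ := ((h3 _ hgz).comap_subtype (K := C)).exists_le_sylow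
    obtain ⟨e, he⟩ := MulAction.exists_smul_eq C D' D
    obtain ⟨T, hT⟩ := ((D.2).map C.subtype).exists_le_sylow
    obtain ⟨h, hh⟩ := MulAction.exists_smul_eq G P T
    have hmem : ∀ w ∈ (T : Subgroup G), h⁻¹ * w * h ∈ (P : Subgroup G) := fun w hw => by
      rw [← hh] at hw
      obtain ⟨p, hp, rfl⟩ := hw
      show h⁻¹ * (h * p * h⁻¹) * h ∈ (P : Subgroup G)
      rw [show h⁻¹ * (h * p * h⁻¹) * h = p by group]
      exact hp
    have hzT : z ∈ (T : Subgroup G) :=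
      hT ⟨⟨z, hzC⟩, hD (show (⟨z, hzC⟩ : C) ∈ (zpowers z).subgroupOf C from mem_zpowers z), rfl⟩
    set m := (e : G) * g
    have hmT : m * z * m⁻¹ ∈ (T : Subgroup G) := by
      have : e • (⟨g * z * g⁻¹, hgzC⟩ : C) = e • ⟨g * z * g⁻¹, hgzC⟩ := rfl
      refine hT ⟨e * ⟨g * z * g⁻¹, hgzC⟩ * e⁻¹, he ▸ ⟨⟨g * z * g⁻¹, hgzC⟩,
        hD' (show (⟨g * z * g⁻¹, hgzC⟩ : C) ∈ (zpowers (g * z * g⁻¹)).subgroupOf C from mem_zpowers _), rfl⟩, ?_⟩
      show (e : G) * (g * z * g⁻¹) * (e : G)⁻¹ = _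
      simp [m, mul_assoc]
    have hm : m ∈ H := by
      have h1 := hconjfix m h (hmem _ hmT)
      have h2 := hconjfix 1 h (by simpa using hmem _ hzT)
      rw [one_smul] at h2
      exact h1.trans h2.symm
    have hmxy : m * x * m⁻¹ = y := by
      have he' : Commute (e : G) y := mem_centralizer_singleton_iff.1 e.2
      calc m * x * m⁻¹ = (e : G) * (g * x * g⁻¹) * (e : G)⁻¹ := by simp [m, mul_assoc]
        _ = y := by rw [hg, he'.eq, mul_inv_cancel_right]
    -- the images lie in a group of order at most three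
    let f : (P : Subgroup G) →* Equiv.Perm W := π.comp (inclusion hPH)
    have hC3 := card_range_le_three P.2 hW4 f
    set σ := π ⟨x, hPH hx⟩ with hσ
    set σ' := π ⟨y, hPH hy⟩ with hσ'
    have hσy : π ⟨m, hm⟩ * σ * (π ⟨m, hm⟩)⁻¹ = σ' := by
      rw [hσ, hσ', ← map_inv, ← map_mul, ← map_mul]
      exact congrArg π (Subtype.ext hmxy)
    by_cases hs1 : σ = 1
    · rw [← hσy, hs1]; group
    have hσ3 : σ ^ 3 = 1 := by
      obtain ⟨k, hk⟩ := IsPGroup.iff_card.1 (P.2.of_surjective f.rangeRestrict f.rangeRestrict_surjective)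
      have h1 : orderOf σ ∣ 3 ^ k := hk ▸ (Subgroup.orderOf_mk σ (show σ ∈ f.range from ⟨⟨x, hx⟩, rfl⟩)) ▸
        orderOf_dvd_natCard _
      rw [hk] at hC3
      refine orderOf_dvd_iff_pow_eq_one.1 (h1.trans (pow_dvd_pow 3 (show k ≤ 1 from ?_)) |>.trans (by norm_num))
      exact (Nat.pow_le_pow_iff_right (show 1 < 3 by norm_num)).1 (by rwa [pow_one])
    have hs1' : σ' ≠ 1 := fun e' => hs1 (conj_eq_one_iff.1 (hσy.trans e'))
    rcases eq_or_eq_inv hC3 (show σ ∈ f.range from ⟨⟨x, hx⟩, rfl⟩) (show σ' ∈ f.range from ⟨⟨y, hy⟩, rfl⟩)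
      hs1 hs1' hσ3 with e' | e'
    · exact e'.symm
    · exfalso
      rw [e'] at hσy
      obtain ⟨i, w, hw⟩ := perm_inverted hW4 hσ3 hs1 (mul_inv_eq_iff_eq_mul.1 hσy)
      set r : H := (⟨x, hPH hx⟩ : H) ^ i * ⟨m, hm⟩ with hr
      have hπr : π r = σ ^ i * π ⟨m, hm⟩ := by rw [hr, map_mul, map_pow]
      have hrw : (r : G) • (w : Ω) = w := by
        rw [← permOn_apply (hQ := fun g hg => hg) r w]
        exact congrArg Subtype.val ((Equiv.congr_fun hπr w).trans hw)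
      have hodd : Odd (orderOf (π r)) := by
        refine Odd.of_dvd_nat ?_ (orderOf_map_dvd π r)
        rw [← Subgroup.orderOf_coe, ← Subgroup.orderOf_mk (r : G) (show (r : G) ∈ stabilizer G (w : Ω) from hrw)]
        exact (hstab w).of_dvd_nat (orderOf_dvd_natCard _)
      refine hs1 (eq_one_of_inverted hodd hσ3 ?_)
      rw [hπr, mul_inv_rev]
      calc σ ^ i * π ⟨m, hm⟩ * σ * ((π ⟨m, hm⟩)⁻¹ * (σ ^ i)⁻¹)
          = σ ^ i * (π ⟨m, hm⟩ * σ * (π ⟨m, hm⟩)⁻¹) * (σ ^ i)⁻¹ := by group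
        _ = σ⁻¹ := by
          rw [hσy, ((Commute.refl σ).inv_right.pow_left i).eq, mul_inv_cancel_right]
  -- `P` fixes `W` pointwise
  have hPW : ∀ s ∈ (P : Subgroup G), ∀ w ∈ W, s • w = w := by
    have hfoc : (P : Subgroup G).focalSubgroup ≤ (P : Subgroup G) ⊓ fixingSubgroup G W := by
      refine (closure_le _).2 ?_
      rintro g ⟨hgP, x, hx, v, rfl⟩
      refine ⟨hgP, (mem_fixingSubgroup_iff G).2 ?_⟩
      have hy : v * x⁻¹ * v⁻¹ ∈ (P : Subgroup G) := by
        have := mul_mem (inv_mem hx) hgP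
        simpa [commutatorElement_def, mul_assoc] using this
      have h1 : π ⟨⁅x, v⁆, hPH hgP⟩ = 1 := by
        rw [show (⟨⁅x, v⁆, hPH hgP⟩ : H) = ⟨x, hPH hx⟩ * ⟨v * x⁻¹ * v⁻¹, hPH hy⟩ from
          Subtype.ext (show ⁅x, v⁆ = x * (v * x⁻¹ * v⁻¹) by simp [commutatorElement_def, mul_assoc]),
          map_mul, ← hfus x⁻¹ (v * x⁻¹ * v⁻¹) (inv_mem hx) hy v rfl, ← map_mul]
        exact (congrArg π (Subtype.ext (mul_inv_cancel x))).trans (map_one π)
      exact permOn_eq_one.1 h1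
    intro s hs
    have hs' : s ∈ (P : Subgroup G).focalSubgroup := by
      rw [← Subgroup.commutator_inf_eq_focalSubgroup, commutator_eq_top_of_simple hna, top_inf_eq]
      exact hs
    exact (mem_fixingSubgroup_iff G).1 (hfoc hs').2
  have hthree : ∀ x ∈ H, orderOf x = 3 → fixedBy Ω x = W := by
    intro x hx hxo
    obtain ⟨R, hR⟩ := ((IsPGroup.of_card (n := 1) (by rw [Nat.card_zpowers, hxo, pow_one]) :
      IsPGroup 3 (zpowers x)).comap_subtype (K := H)).exists_le_sylow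
    obtain ⟨k, hk⟩ := MulAction.exists_smul_eq H R (P.subtype hPH)
    have hkP : (k : G) * x * (k : G)⁻¹ ∈ (P : Subgroup G) := by
      have : k * ⟨x, hx⟩ * k⁻¹ ∈ (P.subtype hPH : Subgroup H) :=
        hk ▸ ⟨⟨x, hx⟩, hR (show (⟨x, hx⟩ : H) ∈ (zpowers x).subgroupOf H from mem_zpowers x), rfl⟩
      exact this
    have h1 := hle.fixed_eq P.2 hkP
      (fun e => by rw [conj_eq_one_iff] at e; rw [e, orderOf_one] at hxo; omega) hzc (hPW _ hkP)
    rw [fixed_conj] at h1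
    rw [show fixedBy Ω x = (k : G)⁻¹ • W from eq_inv_smul_iff.2 h1]
    exact inv_mem k.2
  refine ⟨H, fun htop => hz1 ?_, ?_, fun g hg h3 => hg ?_⟩
  · refine eq_of_smul_eq_smul fun w : Ω => ?_
    rw [one_smul]
    obtain ⟨a, ha⟩ : W.Nonempty := Set.nonempty_of_ncard_ne_zero (by omega)
    obtain ⟨g, rfl⟩ := htrans.exists_smul_eq a w
    have hg : g • W = W := (htop ▸ mem_top g : g ∈ H)
    have hm : g • a ∈ g • W := Set.smul_mem_smul_set ha
    rw [hg] at hm
    exact hm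
  · have h := orderOf_dvd_natCard (⟨z, hzP⟩ : (P : Subgroup G))
    rw [Subgroup.orderOf_mk, hz] at h
    exact h.trans (card_dvd_of_le hPH)
  · obtain ⟨⟨x, hx⟩, hxo⟩ := exists_prime_orderOf_dvd_card' 3 h3
    rw [Subgroup.orderOf_mk] at hxo
    obtain ⟨hxH, y, hy, hyx⟩ := hx
    have hyx' : g * y * g⁻¹ = x := hyx
    have hyo : orderOf y = 3 := by rw [← hxo, ← hyx]; exact ((MulAut.conj g).orderOf_eq y).symm
    have h1 := hthree x hxH hxo
    rw [← hyx', fixed_conj, hthree y hy hyo] at h1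
    exact h1

end Cfsg.Lib.FixityFour
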