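import Cfsg.Agent.FixityFour.Basic
import Cfsg.Agent.FixityFour.Spread
import Cfsg.Agent.S1234
import Cfsg.Agent.S3224
import Cfsg.Agent.S0206

/-!
The Sylow 2-subgroup when two commuting involutions have different fixed point sets of the largest size: at most
three points give a centralizer of order 4, four points give sectional rank at most 4.
-/

set_option autoImplicit false
set_option linter.unusedSectionVars false
set_option linter.style.haveILetI false

namespace Cfsg.Lib.FixityFour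

open MulAction Subgroup
open scoped Pointwise

/-- In the symmetric group of degree 4 two commuting involutions have at most four common centralizing elements. -/
theorem perm_four : ∀ a b : Equiv.Perm (Fin 4), a ≠ 1 → b ≠ 1 → a ≠ b → a * a = 1 → b * b = 1 → a * b = b * a →
    (Finset.univ.filter fun r => r * a = a * r ∧ r * b = b * r).card ≤ 4 := by decide +kernel

variable {G Ω : Type*} [Group G] [Finite G] [MulAction G Ω] [Finite Ω] {c : ℕ}

theorem card_le_of_two_group {Q : Subgroup G} (hQ : IsPGroup 2 Q) {n : ℕ} (h : Nat.card Q ≤ n) {m : ℕ}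
    (hm : n < 2 ^ (m + 1)) : Nat.card Q ≤ 2 ^ m := by
  haveI : Fact (Nat.Prime 2) := ⟨Nat.prime_two⟩
  obtain ⟨k, hk⟩ := hQ.exists_card_eq
  rw [hk] at h ⊢
  have := (Nat.pow_lt_pow_iff_right (by norm_num : 1 < 2)).1 (lt_of_le_of_lt h hm)
  exact Nat.pow_le_pow_right (by norm_num) (by omega)

/-- The image on a small set. -/
theorem card_range_permOn {Q : Subgroup G} (hQ : IsPGroup 2 Q) {W : Set Ω} (hW : ∀ g ∈ Q, g • W = W) {n m : ℕ}
    (hn : W.ncard = n) (h2 : ∀ k, 2 ^ k ∣ n.factorial → k ≤ m) : Nat.card (permOn Q W hW).range ≤ 2 ^ m := by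
  classical
  haveI : Fact (Nat.Prime 2) := ⟨Nat.prime_two⟩
  have hp : IsPGroup 2 (permOn Q W hW).range := hQ.of_surjective _ (permOn Q W hW).rangeRestrict_surjective
  obtain ⟨k, hk⟩ := hp.exists_card_eq
  have hd := card_subgroup_dvd_card (permOn Q W hW).range
  rw [Nat.card_perm, Nat.card_coe_set_eq, hn, hk] at hd
  rw [hk]
  exact Nat.pow_le_pow_right (by norm_num) (h2 k hd)

/-- An element centralizing an abelian transitive subgroup agrees with an element of it. -/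
theorem exists_of_centralize {X : Subgroup G} {W : Set Ω} {w : Ω}
    (hab : ∀ x ∈ X, ∀ y ∈ X, Commute x y) (htr : ∀ a ∈ W, ∃ x ∈ X, x • w = a) {e : G} (he : e • w ∈ W)
    (hc : ∀ x ∈ X, Commute e x) : ∃ x ∈ X, ∀ a ∈ W, (x⁻¹ * e) • a = a := by
  obtain ⟨x, hx, hxe⟩ := htr _ he
  refine ⟨x, hx, fun a ha => ?_⟩
  obtain ⟨y, hy, rfl⟩ := htr a ha
  rw [mul_smul, inv_smul_eq_iff, ← mul_smul, (hc y hy).eq, mul_smul, ← hxe, ← mul_smul, (hab y hy x hx).eq,
    mul_smul]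

/-- The pointwise fixer of `W` in `Q`. -/
abbrev ker (Q : Subgroup G) (W : Set Ω) : Subgroup G := Q ⊓ fixingSubgroup G W

theorem mem_ker {Q : Subgroup G} {W : Set Ω} {g : G} : g ∈ ker Q W ↔ g ∈ Q ∧ ∀ a ∈ W, g • a = a := by
  rw [ker, mem_inf, mem_fixingSubgroup_iff]

/-- Two full sets invariant under `Q`. -/
structure Pair (c : ℕ) (Q : Subgroup G) (W W' : Set Ω) : Prop where
  fixle : FixLE G Ω 2 c
  isP : IsPGroup 2 Q
  cW : W.ncard = c
  cW' : W'.ncard = c
  ne : W ≠ W'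
  invW : ∀ g ∈ Q, g • W = W
  invW' : ∀ g ∈ Q, g • W' = W'

namespace Pair

variable {Q : Subgroup G} {W W' : Set Ω} (D : Pair c Q W W')
include D

theorem symm : Pair c Q W' W := ⟨D.fixle, D.isP, D.cW', D.cW, D.ne.symm, D.invW', D.invW⟩

theorem fixed {k : G} (hk : k ∈ ker Q W) (hk1 : k ≠ 1) : fixedBy Ω k = W := by
  haveI : Fact (Nat.Prime 2) := ⟨Nat.prime_two⟩
  exact D.fixle.fixed_eq D.isP hk.1 hk1 D.cW (mem_ker.1 hk).2

theorem eq_one {k : G} (hk : k ∈ ker Q W) (hk' : k ∈ ker Q W') : k = 1 := by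
  by_contra h
  exact D.ne ((D.fixed hk h).symm.trans (D.symm.fixed hk' h))

theorem conj {q k : G} (hq : q ∈ Q) (hk : k ∈ ker Q W) : q * k * q⁻¹ ∈ ker Q W := by
  rw [mem_ker] at hk ⊢
  refine ⟨mul_mem (mul_mem hq hk.1) (inv_mem hq), fun a ha => ?_⟩
  have ha' : q⁻¹ • a ∈ W := by
    rw [← Set.mem_smul_set_iff_inv_smul_mem, D.invW q hq]
    exact ha
  rw [mul_smul, mul_smul, hk.2 _ ha', smul_inv_smul]

theorem commute {v x : G} (hv : v ∈ ker Q W) (hx : x ∈ ker Q W') : Commute v x := by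
  have h1 : v * x * v⁻¹ * x⁻¹ = 1 := D.eq_one
    (by rw [show v * x * v⁻¹ * x⁻¹ = v * (x * v⁻¹ * x⁻¹) by group]
        exact mul_mem hv (D.conj hx.1 (inv_mem hv)))
    (mul_mem (D.symm.conj hv.1 hx) (inv_mem hx))
  exact mul_inv_eq_iff_eq_mul.1 (mul_inv_eq_one.1 h1)

theorem unique {v x v' x' : G} (hv : v ∈ ker Q W) (hx : x ∈ ker Q W') (hv' : v' ∈ ker Q W) (hx' : x' ∈ ker Q W')
    (h : v * x = v' * x') : v = v' ∧ x = x' := by
  have e : v'⁻¹ * v = x' * x⁻¹ := by rw [eq_mul_inv_iff_mul_eq, mul_assoc, inv_mul_eq_iff_eq_mul, h]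
  have h1 : v'⁻¹ * v = 1 := D.eq_one (mul_mem (inv_mem hv') hv) (e ▸ mul_mem hx' (inv_mem hx))
  refine ⟨(inv_mul_eq_one.1 h1).symm, ?_⟩
  rw [inv_mul_eq_one.1 h1] at h
  exact mul_left_cancel h

theorem invDiff {k : G} (hk : k ∈ ker Q W) : ∀ a ∈ W' \ W, k • a ∈ W' \ W := fun a ha =>
  ⟨by rw [← D.invW' k hk.1]; exact Set.smul_mem_smul_set ha.1,
    fun h => ha.2 (by rw [← D.invW k hk.1] at h; exact Set.smul_mem_smul_set_iff.1 h)⟩

theorem diff_nonempty : (W' \ W).Nonempty := by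
  rw [Set.diff_nonempty]
  exact fun h => D.ne (Set.eq_of_subset_of_ncard_le h (by rw [D.cW, D.cW']) (Set.toFinite _)).symm

theorem card_le_diff : Nat.card ↥(ker Q W) ≤ (W' \ W).ncard := by
  haveI : Fact (Nat.Prime 2) := ⟨Nat.prime_two⟩
  obtain ⟨d, hd⟩ := D.diff_nonempty
  exact D.fixle.card_le_of_invariant D.isP inf_le_left D.cW (fun k hk => (mem_ker.1 hk).2)
    (fun k hk => D.invDiff hk) hd hd.2

theorem card_le : Nat.card ↥(ker Q W) ≤ c := by
  refine D.card_le_diff.trans ?_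
  rw [← D.cW']
  exact Set.ncard_le_ncard Set.sdiff_subset (Set.toFinite _)

theorem card_group_le {n m : ℕ} (hn : Nat.card ↥(ker Q W) ≤ n) (h2 : ∀ k, 2 ^ k ∣ c.factorial → k ≤ m) :
    Nat.card Q ≤ n * 2 ^ m := by
  rw [card_eq_kernel_mul Q W D.invW]
  exact Nat.mul_le_mul hn (card_range_permOn D.isP D.invW D.cW h2)

end Pair

theorem two_pow_dvd_factorial {c : ℕ} (hc : c ≤ 4) {m : ℕ} (hm : c ≤ 3 → 1 ≤ m) (hm4 : c = 4 → 3 ≤ m) {k : ℕ}
    (hk : 2 ^ k ∣ c.factorial) : k ≤ m := by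
  by_contra h
  have h' : 2 ^ (m + 1) ∣ c.factorial := (pow_dvd_pow 2 (by omega)).trans hk
  rcases Nat.lt_or_ge c 4 with h4 | h4
  · have h'' := (pow_dvd_pow 2 (show 2 ≤ m + 1 by have := hm (by omega); omega)).trans h'
    interval_cases c <;> norm_num [Nat.factorial] at h''
  · have h'' := (pow_dvd_pow 2 (show 4 ≤ m + 1 by have := hm4 (by omega); omega)).trans h'
    obtain rfl : c = 4 := by omega
    norm_num [Nat.factorial] at h''

namespace Pair

variable {Q : Subgroup G} {W W' : Set Ω} (D : Pair 4 Q W W')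
include D

theorem card_four (h3 : 3 ≤ Nat.card ↥(ker Q W)) : Nat.card ↥(ker Q W) = 4 := by
  haveI : Fact (Nat.Prime 2) := ⟨Nat.prime_two⟩
  have := D.card_le
  obtain ⟨k, hk⟩ := (D.isP.to_le inf_le_left : IsPGroup 2 ↥(ker Q W)).exists_card_eq
  rw [hk] at this h3 ⊢
  have : k ≤ 2 := (Nat.pow_le_pow_iff_right (by norm_num : 1 < 2)).1 this
  interval_cases k <;> omega

theorem comm_ker (h3 : 3 ≤ Nat.card ↥(ker Q W)) {a b : G} (ha : a ∈ ker Q W) (hb : b ∈ ker Q W) : Commute a b := by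
  haveI : Fact (Nat.Prime 2) := ⟨Nat.prime_two⟩
  haveI := IsPGroup.isMulCommutative_of_card_eq_prime_sq (p := 2) (by rw [D.card_four h3]; norm_num :
    Nat.card ↥(ker Q W) = 2 ^ 2)
  exact congrArg Subtype.val (mul_comm' (⟨a, ha⟩ : ↥(ker Q W)) ⟨b, hb⟩)

theorem regular (h3 : 3 ≤ Nat.card ↥(ker Q W)) {d : Ω} (hd : d ∈ W') :
    d ∉ W ∧ ∀ a ∈ W', ∃ k ∈ ker Q W, k • d = a := by
  haveI : Fact (Nat.Prime 2) := ⟨Nat.prime_two⟩
  have h4 := D.card_four h3
  have hsub : W' \ W = W' := Set.eq_of_subset_of_ncard_le Set.sdiff_subset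
    (by rw [D.cW', ← h4]; exact D.card_le_diff) (Set.toFinite _)
  have hdW : d ∉ W := by rw [← hsub] at hd; exact hd.2
  refine ⟨hdW, fun a ha => ?_⟩
  let φ : ↥(ker Q W) → W' := fun k => ⟨(k : G) • d, by
    rw [← D.invW' k k.2.1]; exact Set.smul_mem_smul_set hd⟩
  have hinj : Function.Injective φ := fun x y hxy => by
    by_contra hne
    refine hdW ?_
    rw [← D.fixed (mul_mem (inv_mem y.2) x.2) fun h1 => hne (Subtype.ext (inv_mul_eq_one.1 h1).symm), mem_fixedBy,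
      mul_smul, show (x : G) • d = (y : G) • d from congrArg Subtype.val hxy, inv_smul_smul]
  have hbij : Function.Bijective φ := (Nat.bijective_iff_injective_and_card φ).2
    ⟨hinj, by rw [h4, Nat.card_coe_set_eq, D.cW']⟩
  obtain ⟨k, hk⟩ := hbij.2 ⟨a, ha⟩
  exact ⟨k, k.2, congrArg Subtype.val hk⟩

/-- An element centralizing the regular kernel of `W` is in the product of the kernels. -/
theorem agree (h3 : 3 ≤ Nat.card ↥(ker Q W)) {e : G} (he : e ∈ Q) (hc : ∀ k ∈ ker Q W, Commute e k) :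
    ∃ v ∈ ker Q W, ∃ x ∈ ker Q W', v * x = e := by
  obtain ⟨w, hw⟩ : W'.Nonempty := Set.nonempty_of_ncard_ne_zero (by rw [D.cW']; norm_num)
  obtain ⟨v, hv, hfix⟩ := exists_of_centralize (fun a ha b hb => D.comm_ker h3 ha hb) (D.regular h3 hw).2
    (by rw [← D.invW' e he]; exact Set.smul_mem_smul_set hw) hc
  exact ⟨v, hv, v⁻¹ * e, mem_ker.2 ⟨mul_mem (inv_mem hv.1) he, hfix⟩, mul_inv_cancel_left v e⟩

/-- The product of the two kernels. -/
noncomputable def prod : Subgroup G :=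
  (MonoidHom.noncommCoprod (ker Q W).subtype (ker Q W').subtype fun v x => D.commute v.2 x.2).range

theorem mem_prod {g : G} : g ∈ D.prod ↔ ∃ v ∈ ker Q W, ∃ x ∈ ker Q W', v * x = g := by
  constructor
  · rintro ⟨⟨v, x⟩, rfl⟩
    exact ⟨v, v.2, x, x.2, rfl⟩
  · rintro ⟨v, hv, x, hx, rfl⟩
    exact ⟨(⟨v, hv⟩, ⟨x, hx⟩), rfl⟩

theorem prod_le : D.prod ≤ Q := fun g hg => by
  obtain ⟨v, hv, x, hx, rfl⟩ := D.mem_prod.1 hg
  exact mul_mem hv.1 hx.1

theorem card_prod (h3 : 3 ≤ Nat.card ↥(ker Q W)) (h3' : 3 ≤ Nat.card ↥(ker Q W')) : Nat.card D.prod = 16 := by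
  unfold prod
  rw [← Nat.card_congr (MonoidHom.ofInjective fun a b hab => by
    obtain ⟨e1, e2⟩ := D.unique a.1.2 a.2.2 b.1.2 b.2.2 hab
    exact Prod.ext (Subtype.ext e1) (Subtype.ext e2)).toEquiv, Nat.card_prod, D.card_four h3, D.symm.card_four h3']

theorem comm_prod (h3 : 3 ≤ Nat.card ↥(ker Q W)) (h3' : 3 ≤ Nat.card ↥(ker Q W')) {a b : G} (ha : a ∈ D.prod)
    (hb : b ∈ D.prod) : Commute a b := by
  obtain ⟨v, hv, x, hx, rfl⟩ := D.mem_prod.1 ha
  obtain ⟨v', hv', x', hx', rfl⟩ := D.mem_prod.1 hb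
  exact ((D.comm_ker h3 hv hv').mul_right (D.commute hv hx')).mul_left
    ((D.commute hv' hx).symm.mul_right (D.symm.comm_ker h3' hx hx'))

theorem sq_prod {v x : G} (hv : v ∈ ker Q W) (hx : x ∈ ker Q W') : v * x * (v * x) = v * v * (x * x) := by
  rw [mul_assoc, ← mul_assoc x v x, ← (D.commute hv hx).eq, mul_assoc, ← mul_assoc]

theorem notMem_cent (h3 : 3 ≤ Nat.card ↥(ker Q W)) {e : G} (he : e ∈ Q) (hne : e ∉ D.prod) :
    Nat.card ↥(ker Q W ⊓ centralizer ({e} : Set G)) ≤ 2 := by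
  have hd := Subgroup.card_dvd_of_le (inf_le_left : ker Q W ⊓ centralizer ({e} : Set G) ≤ ker Q W)
  rw [D.card_four h3] at hd
  have hle := Nat.le_of_dvd (by norm_num) hd
  by_contra hc
  have h4 : Nat.card ↥(ker Q W ⊓ centralizer ({e} : Set G)) = 4 := by
    have hpos := Nat.card_pos (α := ↥(ker Q W ⊓ centralizer ({e} : Set G)))
    interval_cases hh : Nat.card ↥(ker Q W ⊓ centralizer ({e} : Set G)) <;> omega
  have heq : ker Q W ⊓ centralizer ({e} : Set G) = ker Q W :=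
    Subgroup.eq_of_le_of_card_ge inf_le_left (by rw [h4, D.card_four h3])
  refine hne (D.mem_prod.2 (D.agree h3 he fun k hk => ?_))
  rw [← heq] at hk
  exact (mem_centralizer_singleton_iff.1 hk.2).symm

theorem cent_prod_le (h3 : 3 ≤ Nat.card ↥(ker Q W)) (h3' : 3 ≤ Nat.card ↥(ker Q W')) {e : G} (he : e ∈ Q)
    (hne : e ∉ D.prod) : Nat.card ↥(D.prod ⊓ centralizer ({e} : Set G)) ≤ 4 := by
  have h1 := D.notMem_cent h3 he hne
  have h2 := D.symm.notMem_cent h3' he fun h => hne (by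
    obtain ⟨x, hx, v, hv, rfl⟩ := D.symm.mem_prod.1 h
    exact D.mem_prod.2 ⟨v, hv, x, hx, D.commute hv hx⟩)
  refine le_trans (Nat.card_le_card_of_surjective
    (fun w : ↥(ker Q W ⊓ centralizer ({e} : Set G)) × ↥(ker Q W' ⊓ centralizer ({e} : Set G)) =>
      (⟨(w.1 : G) * w.2, D.mem_prod.2 ⟨w.1, w.1.2.1, w.2, w.2.2.1, rfl⟩, mul_mem w.1.2.2 w.2.2.2⟩ :
        ↥(D.prod ⊓ centralizer ({e} : Set G)))) ?_) ?_
  · rintro ⟨n, hn, hne'⟩
    obtain ⟨v, hv, x, hx, rfl⟩ := D.mem_prod.1 hn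
    have hcn : v * x * e = e * (v * x) := mem_centralizer_singleton_iff.1 hne'
    obtain ⟨ev, ex⟩ := D.unique (D.conj he hv) (D.symm.conj he hx) hv hx (by
      rw [show e * v * e⁻¹ * (e * x * e⁻¹) = e * (v * x) * e⁻¹ by group, ← hcn, mul_inv_cancel_right])
    exact ⟨(⟨v, hv, mem_centralizer_singleton_iff.2 (mul_inv_eq_iff_eq_mul.1 ev).symm⟩,
      ⟨x, hx, mem_centralizer_singleton_iff.2 (mul_inv_eq_iff_eq_mul.1 ex).symm⟩), rfl⟩
  · rw [Nat.card_prod]
    exact le_trans (Nat.mul_le_mul h1 h2) (by norm_num)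

/-- The centralizer of an elementary abelian group of order 8 when the image is small enough. -/
theorem small_kernel_bound (hk : Nat.card ↥(ker Q W) ≤ 2) {E C : Subgroup G} (hEC : E ≤ C) (hCQ : C ≤ Q)
    (h8 : Nat.card E = 8) (hE2 : ∀ e ∈ E, e * e = 1) (hcm : ∀ r ∈ C, ∀ e ∈ E, Commute r e) :
    Nat.card C ≤ 8 := by
  classical
  have hinv : ∀ g ∈ C, g • W = W := fun g hg => D.invW g (hCQ hg)
  have hkC : Nat.card ↥(C ⊓ fixingSubgroup G W) ≤ 2 :=
    le_trans (Nat.le_of_dvd Nat.card_pos (Subgroup.card_dvd_of_le (inf_le_inf_right _ hCQ))) hk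
  obtain ⟨σ⟩ : Nonempty (W ≃ Fin 4) := ⟨Finite.equivFinOfCardEq (by rw [Nat.card_coe_set_eq, D.cW])⟩
  let ρ : C →* Equiv.Perm (Fin 4) := (σ.permCongrHom.toMonoidHom).comp (permOn C W hinv)
  have hρ : ∀ g : C, ρ g = 1 ↔ ∀ a ∈ W, (g : G) • a = a := fun g => by
    rw [← permOn_eq_one (hQ := hinv)]
    exact ⟨fun h => σ.permCongrHom.injective (h.trans (map_one _).symm), fun h => by
      show σ.permCongrHom (permOn C W hinv g) = 1
      rw [h, map_one]⟩
  obtain ⟨a, ha, ha1, b, hb, hb1, hab⟩ : ∃ a : C, (a : G) ∈ E ∧ ρ a ≠ 1 ∧ ∃ b : C, (b : G) ∈ E ∧ ρ b ≠ 1 ∧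
      ρ a ≠ ρ b := by
    set ψ : E →* Equiv.Perm (Fin 4) := ρ.comp (Subgroup.inclusion hEC)
    have hker : Nat.card ψ.ker ≤ 2 := le_trans (Nat.card_le_card_of_injective
      (fun g => (⟨((g : E) : G), hEC g.1.2, (mem_fixingSubgroup_iff G).2 ((hρ _).1 g.2)⟩ :
        ↥(C ⊓ fixingSubgroup G W))) fun g g' h => Subtype.ext (Subtype.ext (by have h2 := congrArg Subtype.val h; exact h2))) hkC
    have h4 : 4 ≤ Nat.card ψ.range := by
      have := Subgroup.card_mul_index ψ.ker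
      rw [Subgroup.index_ker, h8] at this
      nlinarith
    haveI : Nontrivial ψ.range := Finite.one_lt_card_iff_nontrivial.1 (by omega)
    obtain ⟨⟨_, a, rfl⟩, ha1⟩ := exists_ne (1 : ψ.range)
    obtain ⟨⟨_, b, rfl⟩, hb⟩ : ∃ b : ψ.range, b ∉ ({1, ⟨ψ a, a, rfl⟩} : Set ψ.range) := by
      by_contra hc
      push Not at hc
      have := Set.ncard_le_ncard (fun x _ => hc x : (Set.univ : Set ψ.range) ⊆ _) (Set.toFinite _)
      rw [Set.ncard_univ] at this
      have := le_trans this ((Set.ncard_insert_le _ _).trans (by rw [Set.ncard_singleton]))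
      omega
    simp only [Set.mem_insert_iff, Set.mem_singleton_iff, not_or] at hb
    exact ⟨Subgroup.inclusion hEC a, a.2, fun h => ha1 (Subtype.ext h), Subgroup.inclusion hEC b, b.2,
      fun h => hb.1 (Subtype.ext h), fun h => hb.2 (Subtype.ext h.symm)⟩
  have hp := perm_four (ρ a) (ρ b) ha1 hb1 hab (by rw [← map_mul, show a * a = 1 from Subtype.ext (hE2 _ ha), map_one])
    (by rw [← map_mul, show b * b = 1 from Subtype.ext (hE2 _ hb), map_one])
    (by rw [← map_mul, ← map_mul, show a * b = b * a from Subtype.ext (hcm _ a.2 _ hb).eq])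
  have hrange : Nat.card ρ.range ≤ 4 := by
    refine le_trans ?_ hp
    rw [← Fintype.card_coe, ← Nat.card_eq_fintype_card]
    refine Nat.card_le_card_of_injective (fun x => ⟨x.1, ?_⟩) fun x y h => by
      have h2 := congrArg Subtype.val h
      exact Subtype.ext h2
    obtain ⟨_, r, rfl⟩ := x
    simp only [Finset.mem_filter, Finset.mem_univ, true_and, ← map_mul]
    exact ⟨congrArg ρ (Subtype.ext (hcm _ r.2 _ ha).eq), congrArg ρ (Subtype.ext (hcm _ r.2 _ hb).eq)⟩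
  have h := Subgroup.card_mul_index ρ.ker
  rw [Subgroup.index_ker] at h
  have hker : Nat.card ρ.ker ≤ 2 := le_trans (Nat.card_le_card_of_injective
    (fun g => (⟨((g : C) : G), g.1.2, (mem_fixingSubgroup_iff G).2 ((hρ _).1 g.2)⟩ :
      ↥(C ⊓ fixingSubgroup G W))) fun g g' h => Subtype.ext (Subtype.ext (by have h2 := congrArg Subtype.val h; exact h2))) hkC
  rw [← h]
  exact le_trans (Nat.mul_le_mul hker hrange) (by norm_num)

end Pair

end Cfsg.Lib.FixityFour
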