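import Cfsg.Agent.FixityFour.Two

/-!
The Sylow 2-subgroup in the configuration of two commuting involutions with different full fixed point sets.
-/

set_option autoImplicit false
set_option linter.unusedSectionVars false
set_option linter.style.haveILetI false

namespace Cfsg.Lib.FixityFour

open MulAction Subgroup
open scoped Pointwise

variable {G Ω : Type*} [Group G] [Finite G] [MulAction G Ω] [Finite Ω] {c : ℕ}

/-- A square root of the identity in a cyclic group of order 4. -/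
theorem sq_one_cases {V : Subgroup G} (h4 : Nat.card V = 4) {w v : G} (hw : w ∈ V) (hw2 : w * w ≠ 1) (hv : v ∈ V)
    (hv2 : v * v = 1) : v = 1 ∨ v = w * w := by
  have hd : orderOf w ∣ 2 ^ 2 := by
    rw [← Subgroup.orderOf_mk w hw, show (2 : ℕ) ^ 2 = Nat.card V by rw [h4]; norm_num]
    exact orderOf_dvd_natCard _
  have ho : orderOf w = 4 := by
    obtain ⟨k, hk, hk'⟩ := (Nat.dvd_prime_pow Nat.prime_two).1 hd
    have : ¬ k ≤ 1 := fun h => hw2 (by
      rw [← pow_two]
      exact orderOf_dvd_iff_pow_eq_one.1 (by rw [hk']; exact (pow_dvd_pow 2 h).trans (by norm_num)))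
    rw [hk', show k = 2 by omega]; norm_num
  have heq : zpowers w = V := Subgroup.eq_of_le_of_card_ge (zpowers_le.2 hw) (by rw [h4, Nat.card_zpowers, ho])
  rw [← heq] at hv
  classical
  obtain ⟨i, hi, rfl⟩ := Finset.mem_image.1 (mem_zpowers_iff_mem_range_orderOf.1 hv)
  rw [Finset.mem_range, ho] at hi
  rw [← pow_add] at hv2
  have hdv : orderOf w ∣ i + i := orderOf_dvd_of_pow_eq_one hv2
  rw [ho] at hdv
  obtain rfl | rfl : i = 0 ∨ i = 2 := by omega
  · exact Or.inl (pow_zero w)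
  · exact Or.inr (pow_two w)

section

variable (h : FixLE G Ω 2 c) (S : Sylow 2 G) {z u : G} (D : Config Ω 2 c (S : Subgroup G) z u)
include h D

theorem pair : Pair c (cent (S : Subgroup G) u) (fixedBy Ω z) (fixedBy Ω u) where
  fixle := h
  isP := S.isPGroup'.to_le inf_le_left
  cW := D.cz
  cW' := D.cu
  ne := D.ne
  invW g hg := smul_fixed_of_commute (D.central g (mem_cent.1 hg).1 (mem_cent.1 hg).2)
  invW' g hg := smul_fixed_of_commute (mem_cent.1 hg).2

theorem u_ne_one : u ≠ 1 := fun e => by have := D.up; rw [e, orderOf_one] at this; omega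

theorem mem_ker_z : z ∈ ker (cent (S : Subgroup G) u) (fixedBy Ω z) :=
  mem_ker.2 ⟨mem_cent.2 ⟨D.zS, D.comm⟩, fun _ ha => ha⟩

theorem mem_ker_u : u ∈ ker (cent (S : Subgroup G) u) (fixedBy Ω u) :=
  mem_ker.2 ⟨mem_cent.2 ⟨D.uS, Commute.refl u⟩, fun _ ha => ha⟩

theorem two_le : 2 ≤ c := by
  refine le_trans ?_ (pair h S D).card_le
  haveI : Nontrivial ↥(ker (cent (S : Subgroup G) u) (fixedBy Ω z)) :=
    ⟨⟨z, mem_ker_z h S D⟩, 1, fun e => by
      have := D.zp; rw [show z = 1 from congrArg Subtype.val e, orderOf_one] at this; omega⟩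
  exact Finite.one_lt_card

/-- At most three fixed points give a Sylow 2-subgroup of maximal class. -/
theorem two_small (hc : c ≤ 3) :
    (∃ n : ℕ, Nonempty ((S : Subgroup G) ≃* DihedralGroup n)) ∨ Cfsg.IsQuasiDihedral (S : Subgroup G) := by
  have P := pair h S D
  set Q := cent (S : Subgroup G) u with hQ
  have hk : Nat.card ↥(ker Q (fixedBy Ω z)) ≤ 2 := by
    have := card_le_of_two_group (P.isP.to_le inf_le_left) (P.card_le.trans hc) (m := 1) (by norm_num)
    simpa using this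
  have h4 : Nat.card Q ≤ 4 := by
    refine le_trans (P.card_group_le hk (m := 1) fun k hk => two_pow_dvd_factorial (by omega) (fun _ => le_rfl)
      (fun h4 => by omega) hk) (by norm_num)
  have hzu : z ≠ u := fun e => D.ne (by rw [e])
  set u' : ↥(S : Subgroup G) := ⟨u, D.uS⟩
  have hu' : orderOf u' = 2 := by rw [Subgroup.orderOf_mk]; exact D.up
  have hz' : orderOf (⟨z, D.zS⟩ : ↥(S : Subgroup G)) = 2 := by rw [Subgroup.orderOf_mk]; exact D.zp
  set C := Subgroup.centralizer ({u'} : Set ↥(S : Subgroup G))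
  have hC : Nat.card C = 4 := by
    have hle : Nat.card C ≤ 4 := le_trans (Nat.card_le_card_of_injective
      (fun g => (⟨((g : ↥(S : Subgroup G)) : G), mem_cent.2 ⟨g.1.2,
        congrArg Subtype.val (mem_centralizer_singleton_iff.1 g.2)⟩⟩ : Q)) fun a b hab =>
          Subtype.ext (Subtype.ext (by have h2 := congrArg Subtype.val hab; exact h2))) h4
    haveI : Fact (Nat.Prime 2) := ⟨Nat.prime_two⟩
    obtain ⟨k, hk'⟩ := (S.isPGroup'.to_subgroup C).exists_card_eq
    have h3 : 3 ≤ Nat.card C := by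
      have n1 : u' ≠ 1 := fun e => u_ne_one h S D (congrArg Subtype.val e)
      have n2 : (⟨z, D.zS⟩ : ↥(S : Subgroup G)) ≠ 1 := fun e => by rw [e, orderOf_one] at hz'; omega
      have n3 : (⟨z, D.zS⟩ : ↥(S : Subgroup G)) ≠ u' := fun e => hzu (congrArg Subtype.val e)
      have hsub : ({1, u', ⟨z, D.zS⟩} : Set ↥(S : Subgroup G)) ⊆ (C : Set ↥(S : Subgroup G)) := by
        rintro x (rfl | rfl | rfl)
        · exact C.one_mem
        · exact mem_centralizer_singleton_iff.2 rfl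
        · exact mem_centralizer_singleton_iff.2 (Subtype.ext D.comm.eq)
      refine le_trans (le_of_eq ?_) (Set.ncard_le_ncard hsub (Set.toFinite _))
      exact (Set.ncard_eq_three.2 ⟨1, u', ⟨z, D.zS⟩, n1.symm, n2.symm, n3.symm, rfl⟩).symm
    rw [hk'] at hle h3 ⊢
    have : k ≤ 2 := (Nat.pow_le_pow_iff_right (by norm_num : 1 < 2)).1 hle
    interval_cases k <;> omega
  rcases Cfsg.Agent.S3224.result S.isPGroup' u' hu' hC with hd | hq | h4'
  · exact Or.inl hd
  · exact Or.inr hq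
  · refine Or.inl ⟨orderOf ((⟨z, D.zS⟩ : ↥(S : Subgroup G)) * u'), ?_⟩
    obtain ⟨e⟩ := Cfsg.Agent.S0206.result (⟨z, D.zS⟩ : ↥(S : Subgroup G)) u' hz' hu'
      (fun e => hzu (congrArg Subtype.val e))
    have htop : Subgroup.closure ({⟨z, D.zS⟩, u'} : Set ↥(S : Subgroup G)) = ⊤ := by
      have h1 : orderOf ((⟨z, D.zS⟩ : ↥(S : Subgroup G)) * u') ≠ 0 := (orderOf_pos _).ne'
      have h2 : orderOf ((⟨z, D.zS⟩ : ↥(S : Subgroup G)) * u') ≠ 1 := fun h1 => hzu (congrArg Subtype.val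
        ((mul_eq_one_iff_eq_inv.1 (orderOf_eq_one_iff.1 h1)).trans
          (inv_eq_of_mul_eq_one_right (by have h2 := pow_orderOf_eq_one u'; rwa [hu', pow_two] at h2))))
      refine Subgroup.eq_top_of_le_card _ ?_
      rw [h4', Nat.card_congr e.toEquiv, DihedralGroup.nat_card]
      omega
    exact ⟨((MulEquiv.subgroupCongr htop).trans Subgroup.topEquiv).symm.trans e⟩

end

/-- Four fixed points give sectional rank at most four. -/
theorem two_four (S : Sylow 2 G) {z u : G} (h : FixLE G Ω 2 4) (D : Config Ω 2 4 (S : Subgroup G) z u) :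
    Cfsg.SectionalPRankLE 2 4 ↥(S : Subgroup G) := by
  classical
  haveI : Fact (Nat.Prime 2) := ⟨Nat.prime_two⟩
  have P := pair h S D
  set Q := cent (S : Subgroup G) u with hQ
  set W := fixedBy Ω z
  set W' := fixedBy Ω u
  set V := ker Q W
  set X := ker Q W'
  have hu2 : u * u = 1 := by rw [← pow_two, ← D.up]; exact pow_orderOf_eq_one u
  have from_bound : (∀ E C : Subgroup G, E ≤ C → C ≤ Q → Nat.card E = 8 → (∀ e ∈ E, e * e = 1) →
      (∀ r ∈ C, ∀ e ∈ E, Commute r e) → Nat.card C ≤ 8) → Cfsg.SectionalPRankLE 2 4 ↥(S : Subgroup G) := by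
    intro hb
    refine sectional_of_selfCentralizing S.isPGroup' (u := ⟨u, D.uS⟩) (Subtype.ext hu2) fun E hE h8 huE r hru hre => ?_
    haveI := hE.1
    set EG := E.map (S : Subgroup G).subtype
    set C := Q ⊓ centralizer (EG : Set G)
    have hEC : EG ≤ C := by
      rintro _ ⟨e, he, rfl⟩
      refine mem_inf.2 ⟨mem_cent.2 ⟨e.2, ?_⟩, mem_centralizer_iff.2 ?_⟩
      · exact congrArg Subtype.val (congrArg Subtype.val (mul_comm' (⟨e, he⟩ : E) ⟨_, huE⟩))
      · rintro _ ⟨e', he', rfl⟩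
        exact congrArg Subtype.val (congrArg Subtype.val (mul_comm' (⟨e', he'⟩ : E) ⟨e, he⟩))
    have hc8 : Nat.card EG = 8 := by
      rw [← h8]; exact (Nat.card_congr (equivMapOfInjective E _ (Subgroup.subtype_injective _)).toEquiv).symm
    have heq := Subgroup.eq_of_le_of_card_ge hEC (by
      rw [hc8]
      refine hb EG C hEC inf_le_left hc8 ?_ fun r hr e he => (mem_centralizer_iff.1 hr.2 e he).symm
      rintro _ ⟨e, he, rfl⟩
      exact congrArg Subtype.val (show e * e = 1 by rw [← pow_two]; exact hE.2 e he))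
    have hr : (r : G) ∈ EG := by
      rw [heq]
      refine mem_inf.2 ⟨mem_cent.2 ⟨r.2, congrArg Subtype.val hru⟩, mem_centralizer_iff.2 ?_⟩
      rintro _ ⟨e, he, rfl⟩
      exact congrArg Subtype.val (hre e he).eq.symm
    obtain ⟨e, he, heq'⟩ := hr
    rwa [← show e = r from Subtype.ext heq']
  by_cases hV : Nat.card V ≤ 2
  · exact from_bound fun E C hEC hCQ h8 h2 hcm => P.small_kernel_bound hV hEC hCQ h8 h2 hcm
  by_cases hX : Nat.card X ≤ 2
  · exact from_bound fun E C hEC hCQ h8 h2 hcm => P.symm.small_kernel_bound hX hEC hCQ h8 h2 hcm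
  have hV3 : 3 ≤ Nat.card V := by omega
  have hX3 : 3 ≤ Nat.card X := by omega
  have hQ32 : Nat.card Q ≤ 32 := le_trans (P.card_group_le P.card_le (m := 3) fun k hk =>
    two_pow_dvd_factorial le_rfl (fun h => by omega) (fun _ => le_rfl) hk) (by norm_num)
  set N := P.prod with hN
  have hNQ : N ≤ Q := P.prod_le
  have hN16 : Nat.card N = 16 := P.card_prod hV3 hX3
  by_cases hcyc : (∃ v ∈ V, v * v ≠ 1) ∧ ∃ x ∈ X, x * x ≠ 1
  · obtain ⟨⟨v₀, hv₀, hv₀2⟩, x₀, hx₀, hx₀2⟩ := hcyc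
    refine from_bound fun E C hEC hCQ h8 h2 hcm => ?_
    obtain ⟨e, he, heN⟩ : ∃ e ∈ E, e ∉ N := by
      by_contra hc
      push Not at hc
      have hsub : (E : Set G) ⊆ ({1, v₀ * v₀, x₀ * x₀, v₀ * v₀ * (x₀ * x₀)} : Set G) := by
        intro e he
        obtain ⟨v, hv, x, hx, rfl⟩ := P.mem_prod.1 (hc e he)
        have h22 := h2 _ he
        rw [P.sq_prod hv hx] at h22
        obtain ⟨e1, e2⟩ := P.unique (mul_mem hv hv) (mul_mem hx hx) (one_mem _) (one_mem _) (by rw [h22, one_mul])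
        rcases sq_one_cases (P.card_four hV3) hv₀ hv₀2 hv e1 with rfl | rfl <;>
          rcases sq_one_cases (P.symm.card_four hX3) hx₀ hx₀2 hx e2 with rfl | rfl <;> simp
      have := Set.ncard_le_ncard hsub (Set.toFinite _)
      rw [← Nat.card_coe_set_eq] at this
      have h4 : ({1, v₀ * v₀, x₀ * x₀, v₀ * v₀ * (x₀ * x₀)} : Set G).ncard ≤ 4 :=
        (Set.ncard_insert_le _ _).trans (Nat.succ_le_succ ((Set.ncard_insert_le _ _).trans (Nat.succ_le_succ
          ((Set.ncard_insert_le _ _).trans (by rw [Set.ncard_singleton])))))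
      have h8' : Nat.card ((E : Set G) : Type _) = 8 := h8
      omega
    have h1 := card_mul_le (W := Q) hCQ hNQ
    have h2 : Nat.card ↥(C ⊓ N) ≤ 4 := le_trans (Nat.le_of_dvd Nat.card_pos (Subgroup.card_dvd_of_le
      (show C ⊓ N ≤ N ⊓ centralizer ({e} : Set G) from fun g hg => ⟨hg.2, mem_centralizer_singleton_iff.2
        (hcm g hg.1 e he)⟩))) (P.cent_prod_le hV3 hX3 (hCQ (hEC he)) heN)
    rw [hN16] at h1
    nlinarith
  set R : Subgroup ↥(S : Subgroup G) := Q.subgroupOf S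
  have hQS : Q ≤ (S : Subgroup G) := inf_le_left
  have hRcard : Nat.card R = Nat.card Q := Nat.card_congr (subgroupOfEquivOfLe hQS).toEquiv
  by_cases hboth : (∀ v ∈ V, v * v = 1) ∧ ∀ x ∈ X, x * x = 1
  · have hNsq : ∀ a ∈ N, a * a = 1 := fun a ha => by
      obtain ⟨v, hv, x, hx, rfl⟩ := P.mem_prod.1 ha
      rw [P.sq_prod hv hx, hboth.1 v hv, hboth.2 x hx, one_mul]
    have hNS : N ≤ (S : Subgroup G) := hNQ.trans hQS
    set E : Subgroup ↥(S : Subgroup G) := N.subgroupOf S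
    have hEcard : Nat.card E = 16 := by rw [← hN16]; exact Nat.card_congr (subgroupOfEquivOfLe hNS).toEquiv
    have hEc : ∀ a ∈ E, ∀ b ∈ E, Commute a b := fun a ha b hb =>
      Subtype.ext (P.comm_prod hV3 hX3 (mem_subgroupOf.1 ha) (mem_subgroupOf.1 hb)).eq
    have hEsq : ∀ a ∈ E, a * a = 1 := fun a ha => Subtype.ext (hNsq _ (mem_subgroupOf.1 ha))
    have hEel : IsElementaryAbelian 2 E := ⟨⟨⟨fun a b => Subtype.ext (hEc a a.2 b b.2).eq⟩⟩,
      fun a ha => by rw [pow_two]; exact hEsq a ha⟩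
    by_cases hQN : Q = N
    · refine (Spread.sectional (E := E) (K := X.subgroupOf S) ?_) S.isPGroup'
      have hXN : X ≤ N := fun x hx => P.mem_prod.2 ⟨1, one_mem _, x, hx, one_mul x⟩
      refine ⟨hEc, hEsq, hEcard, fun x hx => mem_subgroupOf.2 (hXN (mem_subgroupOf.1 hx)),
        by rw [Nat.card_congr (subgroupOfEquivOfLe (hXN.trans hNS)).toEquiv]; exact P.symm.card_four hX3,
        fun k hk hk1 g hg => mem_subgroupOf.2 ?_, fun g _ k hk hk1 hgk => mem_subgroupOf.2 ?_⟩
      · have hk' : (k : G) ∈ X := mem_subgroupOf.1 hk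
        have hk1' : (k : G) ≠ 1 := fun e => hk1 (Subtype.ext e)
        rw [← hQN, mem_cent]
        refine ⟨g.2, D.stab g g.2 ?_⟩
        show (g : G) • W' = W'
        rw [← P.symm.fixed hk' hk1']
        exact smul_fixed_of_commute (show Commute (g : G) k from congrArg Subtype.val hg)
      · have hk' : (k : G) ∈ X := mem_subgroupOf.1 hk
        have hgk' : (g : G) * k * (g : G)⁻¹ ∈ X := mem_subgroupOf.1 hgk
        have hk1' : (k : G) ≠ 1 := fun e => hk1 (Subtype.ext e)
        rw [← hQN, mem_cent]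
        refine ⟨g.2, D.stab g g.2 ?_⟩
        have e := P.symm.fixed hgk' (fun e => hk1' (conj_eq_one_iff.1 e))
        rw [fixed_conj, P.symm.fixed hk' hk1'] at e
        exact e
    obtain ⟨e, heQ, heN⟩ := SetLike.exists_of_lt (lt_of_le_of_ne hNQ (Ne.symm hQN))
    have hQ' : Nat.card Q = 32 := by
      have hdvd := Subgroup.card_dvd_of_le hNQ
      have hne : Nat.card Q ≠ 16 := fun h16 => heN ((Subgroup.eq_of_le_of_card_ge hNQ (by rw [hN16, h16])).symm ▸ heQ)
      rw [hN16] at hdvd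
      have hpos := Nat.card_pos (α := Q)
      omega
    haveI := IsMulCommutative.mk (M := N) ⟨fun a b => Subtype.ext (P.comm_prod hV3 hX3 a.2 b.2).eq⟩
    have hidx : (N.subgroupOf Q).index = 2 := by
      have h1 := card_mul_index (N.subgroupOf Q)
      rw [Nat.card_congr (subgroupOfEquivOfLe hNQ).toEquiv, hN16, hQ'] at h1
      omega
    have hnorm := Subgroup.normal_of_index_eq_two hidx
    have hconj : ∀ n ∈ N, e * n * e⁻¹ ∈ N := fun n hn =>
      mem_subgroupOf.1 (hnorm.conj_mem ⟨n, hNQ hn⟩ (mem_subgroupOf.2 hn) ⟨e, heQ⟩)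
    have hee : e * e ∈ N := mem_subgroupOf.1 (Subgroup.mul_self_mem_of_index_two hidx ⟨e, heQ⟩)
    let φ : N →* N :=
      { toFun := fun n => n * ⟨e * n * e⁻¹, hconj n n.2⟩
        map_one' := Subtype.ext (by show (1 : G) * (e * 1 * e⁻¹) = 1; group)
        map_mul' := fun a b => Subtype.ext (by
          show (a : G) * b * (e * ((a : G) * b) * e⁻¹) = a * (e * a * e⁻¹) * (b * (e * b * e⁻¹))
          rw [show e * ((a : G) * b) * e⁻¹ = e * a * e⁻¹ * (e * b * e⁻¹) by group]
          exact Commute.mul_mul_mul_comm (P.comm_prod hV3 hX3 b.2 (hconj a a.2)) _ _) }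
    have hker4 : Nat.card φ.ker ≤ 4 := le_trans (Nat.card_le_card_of_injective
      (fun n => (⟨((n : N) : G), n.1.2, mem_centralizer_singleton_iff.2 (by
        have h1 : ((n : N) : G) * (e * (n : N) * e⁻¹) = 1 := congrArg Subtype.val n.2
        have h2 : e * ((n : N) : G) * e⁻¹ = (n : N) := mul_left_cancel (h1.trans (hNsq _ n.1.2).symm)
        exact (mul_inv_eq_iff_eq_mul.1 h2).symm)⟩ : ↥(N ⊓ centralizer ({e} : Set G))))
      fun a b hab => Subtype.ext (Subtype.ext (by have h2 := congrArg Subtype.val hab; exact h2)))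
      (P.cent_prod_le hV3 hX3 heQ heN)
    set C₀ := N ⊓ centralizer ({e} : Set G)
    have hrange : φ.range.map N.subtype ≤ C₀ := by
      rintro _ ⟨_, ⟨n, rfl⟩, rfl⟩
      refine mem_inf.2 ⟨(φ n).2, mem_centralizer_singleton_iff.2 ?_⟩
      show (n : G) * (e * n * e⁻¹) * e = e * (n * (e * n * e⁻¹))
      have hc1 := (P.comm_prod hV3 hX3 n.2 hee).eq
      calc (n : G) * (e * n * e⁻¹) * e = n * (e * n) := by group
        _ = e * ((e * n * e⁻¹) * n) := by
          rw [show e * (e * (n : G) * e⁻¹ * n) = e * e * n * e⁻¹ * n by group, ← hc1]; group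
        _ = _ := by rw [(P.comm_prod hV3 hX3 (hconj n n.2) n.2).eq]
    have hidx' := Subgroup.card_mul_index φ.ker
    rw [Subgroup.index_ker, hN16] at hidx'
    have hC4 : Nat.card C₀ ≤ 4 := P.cent_prod_le hV3 hX3 heQ heN
    have hrc : Nat.card ↥(φ.range.map N.subtype) = Nat.card φ.range :=
      (Nat.card_congr (equivMapOfInjective _ _ N.subtype_injective).toEquiv).symm
    have hr4 : 4 ≤ Nat.card φ.range := by nlinarith
    have heq := Subgroup.eq_of_le_of_card_ge hrange (by omega)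
    obtain ⟨_, ⟨n, rfl⟩, hn⟩ : e * e ∈ φ.range.map N.subtype := by
      rw [heq]
      exact ⟨hee, mem_centralizer_singleton_iff.2 (by group)⟩
    have hn' : (n : G) * (e * n * e⁻¹) = e * e := hn
    have hs2 : (n : G) * e * (n * e) = 1 := by
      calc (n : G) * e * (n * e) = n * (e * n * e⁻¹) * (e * e) := by group
        _ = 1 := by rw [hn', hNsq _ hee]
    have hsQ : (n : G) * e ∈ Q := mul_mem (hNQ n.2) heQ
    have hsN : (n : G) * e ∉ N := fun hmem => heN (by simpa using mul_mem (inv_mem n.2) hmem)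
    have hfix : Nat.card ↥(N ⊓ centralizer ({(n : G) * e} : Set G)) = 4 := by
      have hCeq : N ⊓ centralizer ({(n : G) * e} : Set G) = C₀ := by
        ext g
        simp only [mem_inf, mem_centralizer_singleton_iff, C₀]
        refine and_congr_right fun hg => ?_
        have hc1 := (P.comm_prod hV3 hX3 hg n.2).eq
        rw [← mul_assoc, hc1, mul_assoc, mul_assoc]
        exact mul_right_inj _
      have hh : Nat.card ↥(φ.range.map N.subtype) = Nat.card C₀ := by rw [heq]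
      rw [hCeq]
      omega
    refine Cfsg.Agent.S1234.result S.isPGroup' R E (fun x hx => mem_subgroupOf.2 (hNQ (mem_subgroupOf.1 hx))) hEel
      hEcard (by rw [hRcard, hQ']) ⟨(n : G) * e, hQS hsQ⟩ (mem_subgroupOf.2 hsQ)
      (fun hm => hsN (mem_subgroupOf.1 hm)) (orderOf_eq_prime (by rw [pow_two]; exact Subtype.ext hs2)
        (fun e1 => hsN (by have h' : (n : G) * e = 1 := congrArg Subtype.val e1; rw [h']; exact one_mem N))) ?_ ?_
    · rw [← hfix]
      refine Nat.card_congr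
        { toFun := fun g => ⟨((g : ↥(S : Subgroup G)) : G), mem_subgroupOf.1 g.2.1,
            mem_centralizer_singleton_iff.2 (congrArg Subtype.val (mem_centralizer_singleton_iff.1 g.2.2))⟩
          invFun := fun g => ⟨⟨(g : G), hNS g.2.1⟩, mem_subgroupOf.2 g.2.1,
            mem_centralizer_singleton_iff.2 (Subtype.ext (mem_centralizer_singleton_iff.1 g.2.2))⟩
          left_inv := fun g => rfl
          right_inv := fun g => rfl }
    · refine le_antisymm (fun g hg => mem_subgroupOf.2 (mem_cent.2 ⟨g.2, ?_⟩)) fun g hg =>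
        mem_centralizer_iff.2 ?_
      · refine (congrArg Subtype.val (mem_centralizer_iff.1 hg ⟨u, D.uS⟩ ⟨⟨⟨u, D.uS⟩,
          mem_subgroupOf.2 (mem_cent.2 ⟨D.uS, Commute.refl u⟩)⟩, Subgroup.mem_center_iff.2 fun a =>
            Subtype.ext (Subtype.ext ?_), rfl⟩)).symm
        exact (mem_cent.1 (mem_subgroupOf.1 a.2)).2.eq
      · rintro _ ⟨a, ha, rfl⟩
        exact (congrArg Subtype.val (Subgroup.mem_center_iff.1 ha ⟨g, hg⟩)).symm
  obtain ⟨w, hwQ, hw2⟩ : ∃ w ∈ Q, w * w ≠ 1 := by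
    by_contra hc
    push Not at hc
    exact hboth ⟨fun v hv => hc v hv.1, fun x hx => hc x hx.1⟩
  suffices hRtop : R = ⊤ by
    have hS32 : Nat.card ↥(S : Subgroup G) ≤ 32 := by
      rw [← Subgroup.card_top (G := ↥(S : Subgroup G)), ← hRtop, hRcard]; exact hQ32
    exact sectional_of_small S.isPGroup' hS32 fun _ =>
      ⟨⟨w, hQS hwQ⟩, fun e => hw2 (congrArg Subtype.val e)⟩
  by_contra hne
  haveI := S.isPGroup'.isNilpotent
  obtain ⟨g, hg, hgR⟩ := SetLike.exists_of_lt
    (Group.normalizerCondition_of_isNilpotent R (lt_top_iff_ne_top.2 hne))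
  have hnQ : ∀ q ∈ Q, (g : G)⁻¹ * q * g ∈ Q := fun q hq => by
    simpa [R, Subgroup.mem_subgroupOf] using
      (Subgroup.mem_normalizer_iff.1 (inv_mem hg) ⟨q, hQS hq⟩).1 (Subgroup.mem_subgroupOf.2 hq)
  have hnQ' : ∀ q ∈ Q, (g : G) * q * (g : G)⁻¹ ∈ Q := fun q hq => by
    simpa [R, Subgroup.mem_subgroupOf] using
      (Subgroup.mem_normalizer_iff.1 hg ⟨q, hQS hq⟩).1 (Subgroup.mem_subgroupOf.2 hq)
  have P2 : Pair 4 Q W' ((g : G) • W') :=
    ⟨h, P.isP, P.cW', by rw [ncard_smul, P.cW'], fun e => hgR (mem_subgroupOf.2 (mem_cent.2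
      ⟨g.2, D.stab g g.2 e.symm⟩)), P.invW', fun q hq => by
      rw [← mul_smul, show q * (g : G) = g * ((g : G)⁻¹ * q * g) by group, mul_smul, P.invW' _ (hnQ q hq)]⟩
  have hY : ∀ x ∈ X, (g : G) * x * (g : G)⁻¹ ∈ ker Q ((g : G) • W') := fun x hx =>
    mem_ker.2 ⟨hnQ' x hx.1, fun a ha => by
      obtain ⟨b, hb, rfl⟩ := ha
      show ((g : G) * x * (g : G)⁻¹) • (g : G) • b = (g : G) • b
      rw [mul_smul, mul_smul, inv_smul_smul, (mem_ker.1 hx).2 b hb]⟩
  have hag : ∀ x ∈ X, ∃ x' ∈ X, ∃ v ∈ V, x' * v = (g : G) * x * (g : G)⁻¹ := fun x hx =>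
    P.symm.agree hX3 (hnQ' x hx.1) fun k hk => (P2.commute hk (hY x hx)).symm
  by_cases hX4 : ∀ x ∈ X, x * x = 1
  · obtain ⟨v₀, hv₀, hv₀2⟩ : ∃ v ∈ V, v * v ≠ 1 := by
      by_contra hc
      push Not at hc
      exact hboth ⟨hc, hX4⟩
    have hform : ∀ x ∈ X, x ≠ 1 → ∃ x' ∈ X, x' * (v₀ * v₀) = (g : G) * x * (g : G)⁻¹ := fun x hx hx1 => by
      obtain ⟨x', hx', v, hv, e⟩ := hag x hx
      have hsq : x' * v * (x' * v) = 1 := by
        rw [e, show (g : G) * x * (g : G)⁻¹ * (g * x * (g : G)⁻¹) = g * (x * x) * (g : G)⁻¹ by group, hX4 x hx,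
          mul_one, mul_inv_cancel]
      rw [P.symm.sq_prod hx' hv, hX4 x' hx', one_mul] at hsq
      rcases sq_one_cases (P.card_four hV3) hv₀ hv₀2 hv hsq with rfl | rfl
      · rw [mul_one] at e
        exact absurd (conj_eq_one_iff.1 (P2.eq_one (e ▸ hx') (hY x hx))) hx1
      · exact ⟨x', hx', e⟩
    obtain ⟨a, ha, b, hb, hne'⟩ : ∃ a : X, a ≠ 1 ∧ ∃ b : X, b ≠ 1 ∧ a ≠ b := by
      haveI : Nontrivial X := Finite.one_lt_card_iff_nontrivial.1 (by omega)
      obtain ⟨a, ha⟩ := exists_ne (1 : X)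
      by_contra hc
      push Not at hc
      have := Set.ncard_le_ncard (fun x _ => if hx : x = 1 then Or.inl hx else Or.inr (hc a ha x hx).symm :
        (Set.univ : Set X) ⊆ {1, a}) (Set.toFinite _)
      rw [Set.ncard_univ] at this
      have := le_trans this ((Set.ncard_insert_le _ _).trans (by rw [Set.ncard_singleton]))
      omega
    obtain ⟨a', ha', ea⟩ := hform a a.2 fun e => ha (Subtype.ext e)
    obtain ⟨b', hb', eb⟩ := hform b b.2 fun e => hb (Subtype.ext e)
    have h1 : (g : G) * (a * (b : G)⁻¹) * (g : G)⁻¹ = a' * b'⁻¹ := by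
      rw [show (g : G) * (a * (b : G)⁻¹) * (g : G)⁻¹ = g * a * (g : G)⁻¹ * (g * (b : G) * (g : G)⁻¹)⁻¹ by group, ← ea,
        ← eb]
      group
    have h2 := P2.eq_one (h1 ▸ mul_mem ha' (inv_mem hb')) (hY _ (mul_mem a.2 (inv_mem b.2)))
    exact hne' (Subtype.ext (mul_inv_eq_one.1 (conj_eq_one_iff.1 h2)))
  · push Not at hX4
    obtain ⟨x₀, hx₀, hx₀2⟩ := hX4
    obtain ⟨x', hx', v, hv, e⟩ := hag x₀ hx₀
    have hv2 : v * v = 1 := by
      by_contra hv2
      exact hcyc ⟨⟨v, hv, hv2⟩, x₀, hx₀, hx₀2⟩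
    have h1 : (g : G) * (x₀ * x₀) * (g : G)⁻¹ = x' * x' := by
      rw [show (g : G) * (x₀ * x₀) * (g : G)⁻¹ = g * x₀ * (g : G)⁻¹ * (g * x₀ * (g : G)⁻¹) by group, ← e,
        P.symm.sq_prod hx' hv, hv2, mul_one]
    exact hx₀2 (conj_eq_one_iff.1 (P2.eq_one (h1 ▸ mul_mem hx' hx') (hY _ (mul_mem hx₀ hx₀))))

end Cfsg.Lib.FixityFour
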